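import Cfsg.Agent.Lib.Linear.Tensor.Frame
import Cfsg.Agent.Lib.Linear.OrthTrans

/-!
# Frames of small factors, and elements separating the stabilisers
-/

set_option autoImplicit false

namespace Cfsg.Lib.Linear.TensorFrame

open Module
open scoped Matrix

variable {ι : Type} [Fintype ι] [DecidableEq ι] {F : Type*} [Field F] {r m : ℕ}

theorem Ses.of_bilinear {V : Type} [Fintype V] [DecidableEq V] {f : (V → F) → (V → F) → F}
    (h : Cfsg.Geo.IsBilinearForm f) : Ses (RingHom.id F) f :=
  ⟨h.add_left, h.smul_left, h.add_right, fun c v x => by rw [h.smul_right]; rfl⟩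

theorem li_of_orth {σ : F →+* F} {h : (Fin r → F) → (Fin r → F) → F} (S : Ses σ h)
    {v : Fin r → Fin r → F} (d : Fin r → F) (hd : ∀ i, d i ≠ 0)
    (hv : ∀ i j, h (v i) (v j) = if i = j then d i else 0) : LinearIndependent F v := by
  rw [Fintype.linearIndependent_iff]
  intro a ha i
  have := congrArg (fun x => h x (v i)) ha
  simp only [S.sum_left, S.smul_left, hv, S.zero_left, mul_ite, mul_zero, Finset.sum_ite_eq',
    Finset.mem_univ, if_true] at this
  exact (mul_eq_zero.mp this).resolve_right (hd i)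

theorem span_of_orth {σ : F →+* F} {h : (Fin r → F) → (Fin r → F) → F} (S : Ses σ h)
    {v : Fin r → Fin r → F} (hv : LinearIndependent F v) (x : Fin r → F) :
    ∃ a : Fin r → F, ∑ i, a i • v i = x :=
  (Submodule.mem_span_range_iff_exists_fun F).mp
    (hv.span_eq_top_of_card_eq_finrank' (by simp) ▸ Submodule.mem_top)

theorem three_cast [Fintype F] (hq : Fintype.card F = 3) : (3 : F) = 0 := by
  have := Nat.cast_card_eq_zero F
  rw [hq] at this
  exact_mod_cast this

theorem two_ne [Fintype F] (hq : Fintype.card F = 3) : (2 : F) ≠ 0 := fun h =>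
  one_ne_zero (α := F) (by linear_combination three_cast hq - h)

theorem sq_one [Fintype F] (hq : Fintype.card F = 3) {x : F} (hx : x ≠ 0) : x * x = 1 := by
  have := FiniteField.pow_card_sub_one_eq_one x hx
  rw [hq] at this
  rw [← sq]; exact this

theorem pm_one [Fintype F] (hq : Fintype.card F = 3) {x : F} (hx : x ≠ 0) : x = 1 ∨ x = -1 :=
  mul_self_eq_one_iff.mp (sq_one hq hx)

theorem exists_orth_basis [Fintype F] (hq : Fintype.card F = 3) {V : Type} [Fintype V] [DecidableEq V]
    {f : (V → F) → (V → F) → F} (hf : Cfsg.Geo.IsSymmetricForm f) :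
    ∃ v : Fin (Fintype.card V) → V → F, (∀ i j, i ≠ j → f (v i) (v j) = 0) ∧
      ∀ i, f (v i) (v i) ≠ 0 := by
  have : Invertible (2 : F) := invertibleOfNonzero (two_ne hq)
  let B : LinearMap.BilinForm F (V → F) := LinearMap.mk₂ F f hf.bilinear.add_left
    hf.bilinear.smul_left hf.bilinear.add_right hf.bilinear.smul_right
  obtain ⟨b, hb⟩ := LinearMap.BilinForm.exists_orthogonal_basis (B := B) ⟨fun x y => hf.symm x y⟩
  let eqv : Fin (Fintype.card V) ≃ Fin (finrank F (V → F)) :=
    finCongr (finrank_fintype_fun_eq_card F).symm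
  refine ⟨fun i => b (eqv i), fun i j hij => hb (fun h => hij (eqv.injective h)), fun i h0 => ?_⟩
  obtain ⟨⟨x, hx⟩, -⟩ := hf.nondegenerate (b (eqv i)) (b.ne_zero _)
  refine hx ?_
  show B x (b (eqv i)) = 0
  rw [← b.sum_repr x, map_sum, LinearMap.sum_apply]
  refine Finset.sum_eq_zero fun l _ => ?_
  rw [map_smul, LinearMap.smul_apply]
  by_cases hl : l = eqv i
  · rw [hl]; show _ • f _ _ = 0; rw [h0, smul_zero]
  · rw [hb hl, smul_zero]

/-- A frame of three vectors of equal norm. -/
theorem exists_frame_three [Fintype F] (hq : Fintype.card F = 3)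
    {f : (Fin 3 → F) → (Fin 3 → F) → F} (hf : Cfsg.Geo.IsSymmetricForm f) :
    ∃ (κ : F) (v : Fin 3 → Fin 3 → F), κ ≠ 0 ∧ ∀ i j, f (v i) (v j) = if i = j then κ else 0 := by
  obtain ⟨w, ho, hd⟩ := exists_orth_basis hq hf
  have h3 := three_cast hq
  obtain ⟨b, hb, hb'⟩ : ∃ b : Fin 3 → Fin 3 → F,
      (∀ i j, i ≠ j → f (b i) (b j) = 0) ∧ ∀ i, f (b i) (b i) ≠ 0 :=
    ⟨fun i => w (Fin.cast (Fintype.card_fin 3).symm i),
      fun i j hij => ho _ _ fun h => hij (Fin.cast_injective _ h), fun i => hd _⟩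
  have S := Ses.of_bilinear hf.bilinear
  have hsub : ∀ x y z, f x (y - z) = f x y - f x z ∧ f (y - z) x = f y x - f z x := fun x y z => by
    refine ⟨?_, ?_⟩ <;> rw [sub_eq_add_neg y z, ← neg_one_smul F z]
    · rw [S.add_right, S.smul_right]; simp; ring
    · rw [S.add_left, S.smul_left]; ring
  -- two of the norms agree; if the third differs, rotate the two
  have rot : ∀ i j k : Fin 3, i ≠ j → i ≠ k → j ≠ k → f (b i) (b i) = f (b j) (b j) →
      ∃ (κ : F) (v : Fin 3 → Fin 3 → F), κ ≠ 0 ∧ ∀ i j, f (v i) (v j) = if i = j then κ else 0 := by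
    intro i j k hij hik hjk he
    by_cases hk : f (b k) (b k) = f (b i) (b i)
    · refine ⟨f (b i) (b i), ![b i, b j, b k], hb' i, fun x y => ?_⟩
      fin_cases x <;> fin_cases y <;>
        simp [he, hk, hb _ _ hij, hb _ _ hik, hb _ _ hjk, hb _ _ (Ne.symm hij), hb _ _ (Ne.symm hik),
          hb _ _ (Ne.symm hjk)]
    · have hkn : f (b k) (b k) = 2 * f (b i) (b i) := by
        rcases pm_one hq (hb' i) with h1 | h1 <;> rcases pm_one hq (hb' k) with h2 | h2 <;>
          rw [h1, h2] at hk ⊢
        · exact absurd rfl hk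
        · linear_combination -h3
        · linear_combination h3
        · exact absurd rfl hk
      refine ⟨f (b k) (b k), ![b i + b j, b i - b j, b k], hb' k, fun x y => ?_⟩
      fin_cases x <;> fin_cases y <;>
        simp [hsub, S.add_left, S.add_right, hb _ _ hij, hb _ _ hik, hb _ _ hjk,
          hb _ _ (Ne.symm hij), hb _ _ (Ne.symm hik), hb _ _ (Ne.symm hjk)] <;>
        first | linear_combination he | linear_combination -hkn - he | linear_combination hkn + he | linear_combination -he
  have key : f (b 0) (b 0) = f (b 1) (b 1) ∨ f (b 0) (b 0) = f (b 2) (b 2) ∨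
      f (b 1) (b 1) = f (b 2) (b 2) := by
    rcases pm_one hq (hb' 0) with h | h <;> rcases pm_one hq (hb' 1) with h' | h' <;>
      rcases pm_one hq (hb' 2) with h'' | h'' <;> simp [h, h', h'']
  rcases key with h | h | h
  · exact rot 0 1 2 (by decide) (by decide) (by decide) h
  · exact rot 0 2 1 (by decide) (by decide) (by decide) h
  · exact rot 1 2 0 (by decide) (by decide) (by decide) h

theorem frameRule_three [Fintype F] (hq : Fintype.card F = 3)
    {h : (Fin 3 → F) → (Fin 3 → F) → F} (S : Ses (RingHom.id F) h) {v : Fin 3 → Fin 3 → F} {κ : F}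
    (hκ : κ ≠ 0) (hv : ∀ i j, h (v i) (v j) = if i = j then κ else 0) : FrameRule h v := by
  classical
  intro A lam hlam hA i
  have h3 := three_cast hq
  have hli := li_of_orth S (fun _ => κ) (fun _ => hκ) hv
  have hex := fun l => span_of_orth S hli (A.val *ᵥ v l)
  choose M hM using hex
  let N : Matrix (Fin 3) (Fin 3) F := Matrix.of fun l s => M l s
  have hval : ∀ l s, h (A.val *ᵥ v l) (A.val *ᵥ v s) = κ * ∑ x, M l x * M s x := by
    intro l s
    rw [← hM l, ← hM s, S.sum_left, Finset.mul_sum]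
    refine Finset.sum_congr rfl fun x _ => ?_
    rw [S.smul_left, S.sum_right]
    simp only [S.smul_right, hv, mul_ite, mul_zero, Finset.sum_ite_eq, Finset.mem_univ, if_true,
      RingHom.id_apply]
    ring
  have hNN : N * N.transpose = lam • (1 : Matrix (Fin 3) (Fin 3) F) := by
    ext l s
    refine mul_left_cancel₀ hκ ?_
    simp only [Matrix.mul_apply, Matrix.transpose_apply, Matrix.smul_apply, Matrix.one_apply, N,
      Matrix.of_apply, ← hval, hA, hv, smul_eq_mul]
    split_ifs <;> ring
  have hlam1 : lam = 1 := by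
    have hdet := congrArg Matrix.det hNN
    rw [Matrix.det_mul, Matrix.det_transpose, Matrix.det_smul, Matrix.det_one, Fintype.card_fin,
      mul_one] at hdet
    have hd0 : N.det ≠ 0 := fun h => by
      rw [h, zero_mul] at hdet
      exact pow_ne_zero 3 hlam hdet.symm
    have hl := sq_one hq hlam
    rw [sq_one hq hd0] at hdet
    linear_combination -hdet - lam * hl
  have h1 : M i 0 * M i 0 + M i 1 * M i 1 + M i 2 * M i 2 = 1 := by
    refine mul_left_cancel₀ hκ ?_
    rw [mul_one, ← Fin.sum_univ_three (fun x => M i x * M i x), ← hval, hA, hv, if_pos rfl, hlam1,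
      one_mul]
  have hsq : ∀ x, M i x * M i x = if M i x = 0 then 0 else 1 := fun x => by
    split_ifs with hx
    · rw [hx, mul_zero]
    · exact sq_one hq hx
  rw [hsq, hsq, hsq] at h1
  have one : ∃ j, ∀ x, x ≠ j → M i x = 0 := by
    by_cases a : M i 0 = 0 <;> by_cases b : M i 1 = 0 <;> by_cases c : M i 2 = 0 <;>
      simp only [a, b, c, if_pos, if_false] at h1
    · exact absurd h1 (by simp)
    · exact ⟨2, fun x hx => by fin_cases x <;> first | exact a | exact b | exact absurd rfl hx⟩
    · exact ⟨1, fun x hx => by fin_cases x <;> first | exact a | exact c | exact absurd rfl hx⟩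
    · exact absurd (by linear_combination h1) (one_ne_zero (α := F))
    · exact ⟨0, fun x hx => by fin_cases x <;> first | exact b | exact c | exact absurd rfl hx⟩
    · exact absurd (by linear_combination h1) (one_ne_zero (α := F))
    · exact absurd (by linear_combination h1) (one_ne_zero (α := F))
    · exact absurd (by linear_combination h3 - h1) (one_ne_zero (α := F))
  obtain ⟨j, hj⟩ := one
  refine ⟨j, M i j, ?_⟩
  rw [← hM i, Finset.sum_eq_single j (fun x _ hx => by rw [hj x hx, zero_smul])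
    (fun h => absurd (Finset.mem_univ j) h)]

/-- An isotropic vector in dimension at least three over the field with three elements. -/
theorem exists_iso_three [Fintype F] (hq : Fintype.card F = 3) {V : Type} [Fintype V] [DecidableEq V]
    {f : (V → F) → (V → F) → F} (hf : Cfsg.Geo.IsSymmetricForm f) (hV : 3 ≤ Fintype.card V) :
    ∃ u : V → F, u ≠ 0 ∧ f u u = 0 := by
  obtain ⟨w, ho, hd⟩ := exists_orth_basis hq hf
  have S := Ses.of_bilinear hf.bilinear
  let i : Fin (Fintype.card V) := ⟨0, by omega⟩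
  let j : Fin (Fintype.card V) := ⟨1, by omega⟩
  let k : Fin (Fintype.card V) := ⟨2, by omega⟩
  have hij : i ≠ j := by simp [i, j]
  have hik : i ≠ k := by simp [i, k]
  have hjk : j ≠ k := by simp [j, k]
  have pair : ∀ x y, x ≠ y → f (w x) (w x) ≠ f (w y) (w y) → ∃ u : V → F, u ≠ 0 ∧ f u u = 0 := by
    intro x y hxy hne
    refine ⟨w x + w y, fun h => hd x ?_, ?_⟩
    · have := congrArg (fun z => f z (w x)) h
      simpa [S.add_left, S.zero_left, ho _ _ (Ne.symm hxy)] using this
    · rw [S.add_left, S.add_right, S.add_right, ho _ _ hxy, ho _ _ (Ne.symm hxy)]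
      rcases pm_one hq (hd x) with h1 | h1 <;> rcases pm_one hq (hd y) with h2 | h2 <;>
        rw [h1, h2] at hne ⊢
      · exact absurd rfl hne
      · ring
      · ring
      · exact absurd rfl hne
  by_cases h1 : f (w i) (w i) = f (w j) (w j)
  swap
  · exact pair i j hij h1
  by_cases h2 : f (w i) (w i) = f (w k) (w k)
  swap
  · exact pair i k hik h2
  refine ⟨w i + w j + w k, fun h => hd i ?_, ?_⟩
  · have := congrArg (fun z => f z (w i)) h
    simpa [S.add_left, S.zero_left, ho _ _ (Ne.symm hij), ho _ _ (Ne.symm hik)] using this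
  · simp only [S.add_left, S.add_right, ho _ _ hij, ho _ _ hik, ho _ _ hjk, ho _ _ (Ne.symm hij),
      ho _ _ (Ne.symm hik), ho _ _ (Ne.symm hjk)]
    linear_combination f (w i) (w i) * three_cast hq - h1 - h2

/-- A non-zero vector perpendicular to finitely many vectors. -/
theorem exists_perp_indep {n : ℕ} {h : (Fin n → F) → (Fin n → F) → F}
    (hh : Cfsg.Geo.IsBilinearForm h) (a : Fin n → F) (hn : 3 ≤ n) :
    ∃ b, h a b = 0 ∧ b ∉ Submodule.span F {a} := by
  let φ : (Fin n → F) →ₗ[F] F :=
    ⟨⟨fun b => h a b, hh.add_right a⟩, fun c b => hh.smul_right c a b⟩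
  by_contra hne
  push Not at hne
  have hle : LinearMap.ker φ ≤ Submodule.span F {a} := fun b hb => hne b hb
  have h1 := (Submodule.finrank_mono hle).trans (finrank_span_le_card {a})
  have h2 := φ.finrank_range_add_finrank_ker
  have h3 : finrank F (LinearMap.range φ) ≤ 1 :=
    (Submodule.finrank_le _).trans (Module.finrank_self F).le
  rw [Module.finrank_fin_fun] at h2
  simp at h1
  omega

section Orth

open Cfsg.Lib.Linear.Orth

variable {Q : (ι → F) → F} {B : LinearMap.BilinForm F (ι → F)}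

theorem not_max_orth [Fintype F] (hq : Fintype.card F = 3) (C : Space Q B)
    (h5 : 5 ≤ Fintype.card ι) {f₁ : (Fin 3 → F) → (Fin 3 → F) → F}
    {f₂ : (Fin m → F) → (Fin m → F) → F} (hf₁ : Cfsg.Geo.IsSymmetricForm f₁)
    (hf₂ : Cfsg.Geo.IsSymmetricForm f₂) (hm : 3 ≤ m) {G : Subgroup (GL ι F)}
    {pu : (Fin 3 → F) →ₗ[F] (Fin m → F) →ₗ[F] (ι → F)}
    (T : Pairing (QuadraticMap.polar Q) f₁ f₂ G pu) :
    ∃ K : Subgroup (GL ι F), G ⊓ Cfsg.Geo.omegaGL Q < K ∧ K < Cfsg.Geo.omegaGL Q := by
  obtain ⟨κ, v, hκ, hv⟩ := exists_frame_three hq hf₁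
  have S₁ := Ses.of_bilinear hf₁.bilinear
  have S₂ := Ses.of_bilinear hf₂.bilinear
  have hli := li_of_orth S₁ (fun _ => κ) (fun _ => hκ) hv
  obtain ⟨c, hc, hform⟩ := T.form
  have hB : ∀ i j a b, B (pu (v i) a) (pu (v j) b) = if i = j then c * κ * f₂ a b else 0 :=
    fun i j a b => by
      rw [← C.polar, hform, hv]
      split_ifs <;> ring
  obtain ⟨a, ha0, ha⟩ := exists_iso_three hq hf₂ (by simpa using hm)
  obtain ⟨⟨-, -⟩, ⟨a', ha'⟩⟩ := hf₂.nondegenerate a ha0
  have hQ : Q (pu (v 0) a) = 0 := by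
    have h1 : (2 : F) * Q (pu (v 0) a) = 0 := by rw [← C.self, hB, if_pos rfl, ha, mul_zero]
    exact (mul_eq_zero.mp h1).resolve_left (two_ne hq)
  obtain ⟨b, hb, hbs⟩ := exists_perp_indep hf₂.bilinear a hm
  have hmem : ∀ w, B (pu (v 0) a) w = 0 → sGL Q B (pu (v 0) a) w ∈ Cfsg.Geo.omegaGL Q := fun w hw => by
    rw [omegaGL_eq C h5]
    exact sGL_mem_root trivial trivial hQ hw
  refine not_max (v := v) T S₂ (frameRule_three hq S₁ hκ hv) ⟨a, a', ha'⟩
    ⟨v 0, v 0, by rw [hv, if_pos rfl]; exact hκ⟩ hli (I := Cfsg.Geo.omegaGL Q) (fun g hg x y => ?_)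
    0 1 (by decide) ?_ ?_
  · rw [omegaGL_eq C h5] at hg
    have hiso : g ∈ isometryGroup F Q := by
      refine (Subgroup.closure_le _).mpr ?_ hg
      rintro _ ⟨u, w, -, -, hu, hw, rfl⟩
      exact sGL_mem C hu hw
    rw [C.polar, C.polar, C.B_act hiso]
  · have hw : B (pu (v 0) a) (pu (v 0) b) = 0 := by rw [hB, if_pos rfl, hb, mul_zero]
    refine ⟨_, hmem _ hw, fun z => z + (c * κ * f₂ a z) • b -
      (c * κ * f₂ b z + Q (pu (v 0) b) * (c * κ * f₂ a z)) • a, fun z => ?_, fun i hi z => ?_, ?_⟩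
    · rw [sGL_act C hQ hw, hB, if_pos rfl, hB, if_pos rfl]
      simp only [map_add, map_sub, map_smul]
    · rw [sGL_act C hQ hw, hB, if_neg (Ne.symm hi), hB, if_neg (Ne.symm hi)]
      simp
    · intro μ
      by_cases hμ : μ = 1
      · refine ⟨a', fun he => hbs ?_⟩
        simp only [] at he
        rw [hμ, one_smul, add_sub_assoc, add_eq_left, sub_eq_zero] at he
        refine Submodule.mem_span_singleton.mpr ⟨(c * κ * f₂ a a')⁻¹ *
          (c * κ * f₂ b a' + Q (pu (v 0) b) * (c * κ * f₂ a a')), ?_⟩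
        rw [mul_smul, ← he, smul_smul, inv_mul_cancel₀ (mul_ne_zero (mul_ne_zero hc hκ) ha'),
          one_smul]
      · refine ⟨a, fun he => hμ ?_⟩
        have hba : f₂ b a = 0 := by rw [hf₂.symm, hb]
        simp only [ha, hba, mul_zero, add_zero, zero_smul, sub_zero] at he
        exact (smul_left_injective F ha0 (show (1 : F) • a = μ • a by rw [one_smul]; exact he)).symm
  · have hw : B (pu (v 0) a) (pu (v 1) a') = 0 := by rw [hB, if_neg (by decide)]
    let t := c * κ * f₂ a a'
    let s := Q (pu (v 1) a') * t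
    refine ⟨_, hmem _ hw, a', Pi.single 0 (a' - s • a) + Pi.single 1 (t • a'), ?_, ?_, ?_⟩
    · rw [sGL_act C hQ hw, hB, if_pos rfl, hB, if_neg (by decide), map_add, phi_single, phi_single]
      simp only [map_sub, map_smul, zero_add, s, t]
      abel
    · simp only [Pi.add_apply, Pi.single_eq_same, Pi.single_eq_of_ne (show (0 : Fin 3) ≠ 1 by decide),
        add_zero]
      intro he
      rw [sub_eq_zero] at he
      apply ha'
      rw [he, S₂.smul_right, ha, mul_zero]
    · simp only [Pi.add_apply, Pi.single_eq_same, Pi.single_eq_of_ne (show (1 : Fin 3) ≠ 0 by decide),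
        zero_add]
      refine smul_ne_zero (mul_ne_zero (mul_ne_zero hc hκ) ha') fun h => ha' ?_
      rw [h, S₂.zero_right]

end Orth

end Cfsg.Lib.Linear.TensorFrame
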