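import Cfsg.Agent.Lib.Linear.Tensor.Cases
import Cfsg.Agent.Lib.Linear.OrthRule

/-!
# `Sp₂(2) ⊗ Sp_m(2)` lies in the normaliser of an element of order three
-/

set_option autoImplicit false

namespace Cfsg.Lib.Linear.TensorFrame

open Module Cfsg.Lib.Linear.Orth
open scoped Matrix Kronecker

variable {ι : Type} [Fintype ι] [DecidableEq ι] {F : Type*} [Field F] {m : ℕ}

theorem act_of_kron {n₁ n₂ : ℕ} {e : ι ≃ Fin n₁ × Fin n₂} {P : GL ι F}
    (A : Matrix (Fin n₁) (Fin n₁) F) (k : GL (Fin n₁ × Fin n₂) F)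
    (hk : k.val = A ⊗ₖ (1 : Matrix (Fin n₂) (Fin n₂) F)) (a : Fin n₁ → F) (b : Fin n₂ → F) :
    (P * Cfsg.Geo.glReindex e.symm k * P⁻¹ : GL ι F).val *ᵥ pure₁ e P a b =
      pure₁ e P (A *ᵥ a) b := by
  simp only [pure₁, LinearMap.mk₂_apply]
  rw [Matrix.mulVec_mulVec, ← Units.val_mul, inv_mul_cancel_right, Units.val_mul,
    ← Matrix.mulVec_mulVec]
  congr 1
  funext l
  show ∑ l', ((Cfsg.Geo.glReindex e.symm k : GL ι F) : Matrix ι ι F) l l' * _ = _
  rw [← e.symm.sum_comp, Fintype.sum_prod_type]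
  show _ = (∑ i, A (e l).1 i * a i) * b (e l).2
  rw [Finset.sum_mul]
  refine Finset.sum_congr rfl fun i _ => ?_
  rw [Finset.sum_eq_single (e l).2 (fun j _ hj => by
      simp [Cfsg.Geo.glReindex, hk, Matrix.kroneckerMap_apply, Matrix.one_apply, Ne.symm hj])
    (fun h => absurd (Finset.mem_univ _) h)]
  simp [Cfsg.Geo.glReindex, hk, Matrix.kroneckerMap_apply]
  ring

theorem gl_ext_pure {r : ℕ} {f : (ι → F) → (ι → F) → F} {h₁ : (Fin r → F) → (Fin r → F) → F}
    {h₂ : (Fin m → F) → (Fin m → F) → F} {G : Subgroup (GL ι F)}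
    {pu : (Fin r → F) →ₗ[F] (Fin m → F) →ₗ[F] (ι → F)} (T : Pairing f h₁ h₂ G pu) {g g' : GL ι F}
    (h : ∀ i b, g.val *ᵥ pu (Pi.single i 1) b = g'.val *ᵥ pu (Pi.single i 1) b) : g = g' :=
  gl_ext fun x => by
    obtain ⟨a, rfl⟩ := T.span x
    rw [Matrix.mulVec_sum, Matrix.mulVec_sum]
    exact Finset.sum_congr rfl fun i _ => h i (a i)

theorem exists_separate {n : ℕ} {h : (Fin n → F) → (Fin n → F) → F}
    (hh : Cfsg.Geo.IsBilinearForm h) (hnd : Cfsg.Geo.IsNondegenerateForm h) {a b : Fin n → F}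
    (hab : b ∉ Submodule.span F {a}) : ∃ z, h a z = 0 ∧ h b z = 1 := by
  obtain ⟨z, hz, hz'⟩ : ∃ z, h a z = 0 ∧ h b z ≠ 0 := by
    by_contra hne
    push Not at hne
    by_cases ha : ∀ z, h a z = 0
    · obtain ⟨-, z, hz⟩ := hnd b (fun h0 => hab (h0 ▸ zero_mem _))
      exact hz (hne z (ha z))
    push Not at ha
    obtain ⟨y, hy⟩ := ha
    by_cases hd : b - (h b y / h a y) • a = 0
    · exact hab (Submodule.mem_span_singleton.mpr ⟨_, (sub_eq_zero.mp hd).symm⟩)
    obtain ⟨-, x, hx⟩ := hnd _ hd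
    refine hx ?_
    have h1 := hne (x + (-(h a x / h a y)) • y) (by
      rw [hh.add_right, hh.smul_right]; field_simp; ring)
    rw [hh.add_right, hh.smul_right] at h1
    rw [sub_eq_add_neg, ← neg_smul, hh.add_left, hh.smul_left]
    field_simp at h1 ⊢
    linear_combination h1
  exact ⟨(h b z)⁻¹ • z, by rw [hh.smul_right, hz, mul_zero],
    by rw [hh.smul_right, inv_mul_cancel₀ hz']⟩

/-- The elements conjugating `J` to itself or to its inverse. -/
def pmCentralizer {H : Type*} [Group H] (J : H) : Subgroup H where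
  carrier := {g | g * J * g⁻¹ = J ∨ g * J * g⁻¹ = J⁻¹}
  one_mem' := Or.inl (by simp)
  mul_mem' {g h} hg hh := by
    show g * h * J * (g * h)⁻¹ = J ∨ _
    have e : g * h * J * (g * h)⁻¹ = MulAut.conj g (h * J * h⁻¹) := by simp [mul_assoc]
    have eg : MulAut.conj g J = g * J * g⁻¹ := rfl
    rcases hh with hh | hh <;> rcases hg with hg | hg
    · left; rw [e, hh, eg, hg]
    · right; rw [e, hh, eg, hg]
    · right; rw [e, hh, map_inv, eg, hg]
    · left; rw [e, hh, map_inv, eg, hg, inv_inv]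
  inv_mem' {g} hg := by
    rcases hg with hg | hg
    · left
      calc g⁻¹ * J * g⁻¹⁻¹ = g⁻¹ * (g * J * g⁻¹) * g := by rw [hg, inv_inv]
        _ = J := by group
    · right
      calc g⁻¹ * J * g⁻¹⁻¹ = (g⁻¹ * J⁻¹ * g)⁻¹ := by group
        _ = (g⁻¹ * (g * J * g⁻¹) * g)⁻¹ := by rw [hg]
        _ = J⁻¹ := by group

section Two

variable {Q : (ι → F) → F} {B : LinearMap.BilinForm F (ι → F)}

theorem zero_or_one [Fintype F] (hq : Fintype.card F = 2) (x : F) : x = 0 ∨ x = 1 := by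
  classical
  by_contra h
  rw [not_or] at h
  have : ({0, 1, x} : Finset F).card = 3 := by simp [Ne.symm h.1, Ne.symm h.2]
  have h2 := Finset.card_le_univ ({0, 1, x} : Finset F)
  omega

theorem add_self_zero [Fintype F] (hq : Fintype.card F = 2) : (2 : F) = 0 := by
  have := Nat.cast_card_eq_zero F
  rw [hq] at this
  exact_mod_cast this

theorem not_max_symp_two [Fintype F] (hq : Fintype.card F = 2) (C : Space Q B)
    (h5 : 5 ≤ Fintype.card ι) {f₁ : (Fin 2 → F) → (Fin 2 → F) → F}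
    {f₂ : (Fin m → F) → (Fin m → F) → F} (hf₁ : Cfsg.Geo.IsSymplecticForm f₁)
    (hf₂ : Cfsg.Geo.IsSymplecticForm f₂) (hm : 3 ≤ m) {e : ι ≃ Fin 2 × Fin m} {P : GL ι F}
    (hT : Cfsg.Geo.IsTensorFormStructure id (QuadraticMap.polar Q) f₁ f₂ e P)
    (hpure : ∀ a b, Q (pure₁ e P a b) = 0) :
    ∃ K : Subgroup (GL ι F), Cfsg.Geo.tensorProductSubgroup 2 m e P ⊓ Cfsg.Geo.omegaGL Q < K ∧
      K < Cfsg.Geo.omegaGL Q := by
  classical
  have h2 := add_self_zero hq
  have S₁ := Ses.of_bilinear hf₁.bilinear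
  have S₂ := Ses.of_bilinear hf₂.bilinear
  obtain ⟨pu, hpu⟩ : ∃ pu, pu = pure₁ e P := ⟨_, rfl⟩
  have T := pairing₁ (σ := RingHom.id F) S₁ S₂ hT
  rw [← hpu] at T hpure
  obtain ⟨c, hc, hform⟩ := T.form
  obtain rfl : c = 1 := (zero_or_one hq c).resolve_left hc
  let e0 : Fin 2 → F := Pi.single 0 1
  let e1 : Fin 2 → F := Pi.single 1 1
  have hexp : ∀ a : Fin 2 → F, a = a 0 • e0 + a 1 • e1 := fun a => by
    funext i; fin_cases i <;> simp [e0, e1]
  have hli : LinearIndependent F (fun i : Fin 2 => (Pi.single i 1 : Fin 2 → F)) := by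
    rw [Fintype.linearIndependent_iff]
    intro a ha i
    have := congrFun ha i
    simpa [Fin.sum_univ_two, Pi.single_apply] using by
      fin_cases i <;> simpa [Fin.sum_univ_two] using this
  obtain ⟨hinj, -⟩ := T.bijective hli
  have hinj' : ∀ {a b a' b' : Fin m → F},
      pu e0 a + pu e1 b = pu e0 a' + pu e1 b' → a = a' ∧ b = b' := fun {a b a' b'} h => by
    have := hinj (a₁ := ![a, b]) (a₂ := ![a', b']) (by
      simpa [phi_apply, Fin.sum_univ_two] using h)
    exact ⟨congrFun this 0, congrFun this 1⟩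
  have h01 : f₁ e0 e1 = 1 := (zero_or_one hq _).resolve_left fun h0 => by
    obtain ⟨-, x, hx⟩ := hf₁.nondegenerate e0 (Pi.single_ne_zero_iff.mpr one_ne_zero)
    refine hx ?_
    rw [hexp x, S₁.add_right, S₁.smul_right, S₁.smul_right, hf₁.alternating, h0]
    simp
  have h10 : f₁ e1 e0 = 1 := by rw [hf₁.skew, h01]; linear_combination -h2
  have hB : ∀ a b a' b', B (pu a b) (pu a' b') = f₁ a a' * f₂ b b' := fun a b a' b' => by
    rw [← C.polar, hform, one_mul]
  have hQ2 : ∀ a b, Q (pu e0 a + pu e1 b) = f₂ a b := fun a b => by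
    rw [C.add, hpure, hpure, hB, h01]; ring
  let j : Matrix (Fin 2) (Fin 2) F := !![0, 1; 1, 1]
  let j' : Matrix (Fin 2) (Fin 2) F := !![1, 1; 1, 0]
  have hjj : j * j' = 1 ∧ j' * j = 1 := by
    constructor <;> ext a b <;> fin_cases a <;> fin_cases b <;>
      simp [j, j', Matrix.mul_apply, Fin.sum_univ_two] <;> linear_combination h2
  let k : GL (Fin 2 × Fin m) F := ⟨j ⊗ₖ (1 : Matrix (Fin m) (Fin m) F),
    j' ⊗ₖ (1 : Matrix (Fin m) (Fin m) F),
    by rw [← Matrix.mul_kronecker_mul, hjj.1, one_mul, Matrix.one_kronecker_one],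
    by rw [← Matrix.mul_kronecker_mul, hjj.2, one_mul, Matrix.one_kronecker_one]⟩
  obtain ⟨J, hJdef⟩ : ∃ J : GL ι F, J = P * Cfsg.Geo.glReindex e.symm k * P⁻¹ := ⟨_, rfl⟩
  have hJ : ∀ a b, J.val *ᵥ pu a b = pu (j *ᵥ a) b := fun a b => by
    rw [hJdef, hpu]; exact act_of_kron j k rfl a b
  have hJ' : ∀ a b, (J⁻¹ : GL ι F).val *ᵥ pu a b = pu (j' *ᵥ a) b := fun a b => by
    have : pu a b = J.val *ᵥ pu (j' *ᵥ a) b := by
      rw [hJ, Matrix.mulVec_mulVec, hjj.1, Matrix.one_mulVec]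
    rw [this, Matrix.mulVec_mulVec, ← Units.val_mul, inv_mul_cancel, Units.val_one,
      Matrix.one_mulVec]
  have hj0 : j *ᵥ e0 = e1 := by
    funext i; fin_cases i <;> simp [j, e0, e1, Matrix.mulVec, dotProduct, Fin.sum_univ_two]
  have hj1 : j *ᵥ e1 = e0 + e1 := by
    funext i; fin_cases i <;> simp [j, e0, e1, Matrix.mulVec, dotProduct, Fin.sum_univ_two]
  have hj0' : j' *ᵥ e0 = e0 + e1 := by
    funext i; fin_cases i <;> simp [j', e0, e1, Matrix.mulVec, dotProduct, Fin.sum_univ_two]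
  have hJiso : J ∈ isometryGroup F Q := mem_iso.mpr fun x => by
    obtain ⟨a, rfl⟩ := T.span x
    rw [Fin.sum_univ_two, Matrix.mulVec_add, hJ, hJ]
    show Q (pu (j *ᵥ e0) (a 0) + pu (j *ᵥ e1) (a 1)) = Q (pu e0 (a 0) + pu e1 (a 1))
    rw [hQ2, hj0, hj1, C.add, hpure, hpure, hB, S₁.add_right, h10, hf₁.alternating]
    ring
  have hmem : ∀ u w, Q u = 0 → B u w = 0 → sGL Q B u w ∈ Cfsg.Geo.omegaGL Q := fun u w hu hw => by
    rw [omegaGL_eq C h5]
    exact sGL_mem_root trivial trivial hu hw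
  obtain ⟨w1, hw1⟩ : ∃ w1 : Fin m → F, w1 ≠ 0 :=
    ⟨Pi.single ⟨0, by omega⟩ 1, Pi.single_ne_zero_iff.mpr one_ne_zero⟩
  obtain ⟨w2, h12, hw2⟩ := exists_perp_indep hf₂.bilinear w1 hm
  obtain ⟨z, hz1, hz2⟩ := exists_separate hf₂.bilinear hf₂.nondegenerate hw2
  have h21 : f₂ w2 w1 = 0 := by rw [hf₂.skew, h12, neg_zero]
  refine ⟨pmCentralizer J ⊓ Cfsg.Geo.omegaGL Q, lt_of_le_not_ge (fun g hg => ⟨?_, hg.2⟩) ?_,
    lt_of_le_not_ge inf_le_right ?_⟩
  · obtain ⟨A, Bm, hAB⟩ := T.act g hg.1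
    have hinv : ∀ a b, (g⁻¹ : GL ι F).val *ᵥ pu a b =
        pu ((A⁻¹ : GL (Fin 2) F).val *ᵥ a) ((Bm⁻¹ : GL (Fin m) F).val *ᵥ b) := fun a b => by
      have : pu a b = g.val *ᵥ pu ((A⁻¹ : GL (Fin 2) F).val *ᵥ a)
          ((Bm⁻¹ : GL (Fin m) F).val *ᵥ b) := by
        rw [hAB, Matrix.mulVec_mulVec, Matrix.mulVec_mulVec, ← Units.val_mul, ← Units.val_mul,
          mul_inv_cancel, mul_inv_cancel, Units.val_one, Units.val_one, Matrix.one_mulVec,
          Matrix.one_mulVec]
      rw [this, Matrix.mulVec_mulVec, ← Units.val_mul, inv_mul_cancel, Units.val_one,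
        Matrix.one_mulVec]
    let M : Matrix (Fin 2) (Fin 2) F := A.val * j * (A⁻¹ : GL (Fin 2) F).val
    have hM : ∀ a b, (g * J * g⁻¹ : GL ι F).val *ᵥ pu a b = pu (M *ᵥ a) b := fun a b => by
      rw [mul_act, mul_act, hinv, hJ, hAB, Matrix.mulVec_mulVec b, ← Units.val_mul, mul_inv_cancel,
        Units.val_one, Matrix.one_mulVec]
      simp only [M, Matrix.mulVec_mulVec, Matrix.mul_assoc]
    have htr : M 0 0 + M 1 1 = 1 := by
      have := Matrix.trace_units_conj A j
      rw [Matrix.trace_fin_two, Matrix.trace_fin_two] at this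
      rw [this]; simp [j]
    have hdet : M 0 0 * M 1 1 - M 0 1 * M 1 0 = 1 := by
      have := Matrix.det_units_conj A j
      rw [Matrix.det_fin_two, Matrix.det_fin_two] at this
      rw [this]; simp [j]; linear_combination -h2
    have hoff : M 0 1 = 1 ∧ M 1 0 = 1 := by
      have hprod : M 0 1 * M 1 0 = 1 := by
        rcases zero_or_one hq (M 0 0) with h | h <;> rw [h] at htr hdet
        · linear_combination -hdet - h2
        · linear_combination htr - hdet - h2
      rcases zero_or_one hq (M 0 1) with h | h <;> rw [h] at hprod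
      · exact absurd hprod (by simp)
      · exact ⟨h, by simpa using hprod⟩
    rcases zero_or_one hq (M 0 0) with h | h
    · left
      refine gl_ext_pure T fun i b => ?_
      have hMj : M = j := by
        rw [h, zero_add] at htr
        ext a b; fin_cases a <;> fin_cases b <;> simp [j, h, htr, hoff.1, hoff.2]
      rw [hM, hJ, hMj]
    · right
      refine gl_ext_pure T fun i b => ?_
      have hMj : M = j' := by
        rw [h, add_eq_left] at htr
        ext a b; fin_cases a <;> fin_cases b <;> simp [j', h, htr, hoff.1, hoff.2]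
      rw [hM, hJ', hMj]
  · intro hle
    set u := pu e0 w1 + pu e1 w2 with hu
    have hQu : Q u = 0 := by rw [hu, hQ2, h12]
    set u' := pu e1 w1 + pu (e0 + e1) w2 with hu'
    have hJu : J.val *ᵥ u = u' := by rw [hu, hu', Matrix.mulVec_add, hJ, hJ, hj0, hj1]
    have hQu' : Q u' = 0 := by rw [← hJu, mem_iso.mp hJiso, hQu]
    have huu : B u u' = 0 := by
      simp only [hu, hu', map_add, LinearMap.add_apply, hB, h01, h10, hf₁.alternating, S₁.add_right,
        hf₂.alternating, h12, h21, mul_zero, zero_mul, add_zero]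
    have hcomm : J * sGL Q B u u' * J⁻¹ = sGL Q B u u' := by
      rw [sGL_conj C hQu huu hJiso, hJu]
      have hJu' : J.val *ᵥ u' = u + (1 : F) • u' := by
        simp only [hu, hu', Matrix.mulVec_add, hJ, hj1, hj0, Matrix.mulVec_add, one_smul,
          map_add, LinearMap.add_apply]
        abel_nf
        try simp only [← Nat.cast_smul_eq_nsmul F, ← Int.cast_smul_eq_zsmul F, Nat.cast_ofNat,
          Int.cast_ofNat, h2, zero_smul, add_zero, zero_add]
      rw [hJu', sGL_add_self C hQu' (by rw [C.symm, huu]), sGL_swap C hQu' hQu (by rw [C.symm, huu])]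
      refine gl_ext fun x => ?_
      rw [sGL_act C hQu (by rw [map_neg, huu, neg_zero]), sGL_act C hQu huu, C.neg]
      have : -u' = u' := by
        rw [neg_eq_iff_add_eq_zero, ← two_smul F u', h2, zero_smul]
      rw [this]
    have hgK : sGL Q B u u' ∈ pmCentralizer J := Or.inl (by
      rw [mul_inv_eq_iff_eq_mul] at hcomm ⊢
      exact hcomm.symm)
    obtain ⟨A, Bm, hAB⟩ := T.act _ (hle ⟨hgK, hmem u u' hQu huu⟩).1
    have h1 := hAB e0 z
    rw [sGL_act C hQu huu, hQu'] at h1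
    simp only [hu, hu', map_add, LinearMap.add_apply, hB, h10, hf₁.alternating, S₁.add_left,
      h01, hz1, hz2] at h1
    ring_nf at h1
    have h3 : pu e0 (z + w1 + w2) + pu e1 w1 = pu ((A.val *ᵥ e0) 0 • e0 + (A.val *ᵥ e0) 1 • e1)
        (Bm.val *ᵥ z) := by
      rw [← hexp, ← h1]
      simp only [map_add, map_sub, map_smul, LinearMap.add_apply, one_smul, sub_eq_add_neg, neg_add,
        zero_add, add_zero, zero_smul, neg_zero, one_mul, zero_mul, mul_one, mul_zero]
      have hn : ∀ x : ι → F, -x = x := fun x => by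
        rw [neg_eq_iff_add_eq_zero, ← two_smul F x, h2, zero_smul]
      have hd : ∀ x : ι → F, x + x = 0 := fun x => by rw [← two_smul F x, h2, zero_smul]
      simp only [hn]
      abel_nf
      simp only [two_smul, hd, add_zero]
    rw [map_add pu, map_smul pu, map_smul pu, LinearMap.add_apply, LinearMap.smul_apply,
      LinearMap.smul_apply, ← map_smul (pu e0), ← map_smul (pu e1)] at h3
    obtain ⟨ha, hb⟩ := hinj' h3
    rcases zero_or_one hq ((A.val *ᵥ e0) 1) with hs | hs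
    · exact hw1 (by rw [hb, hs, zero_smul])
    rw [hs, one_smul] at hb
    rw [← hb] at ha
    have hf : f₂ w1 (z + w1 + w2) = f₂ w1 ((A.val *ᵥ e0) 0 • w1) := by rw [ha]
    have hf' : f₂ w2 (z + w1 + w2) = f₂ w2 ((A.val *ᵥ e0) 0 • w1) := by rw [ha]
    simp only [S₂.add_right, S₂.smul_right, hz2, h21, hf₂.alternating, mul_zero, add_zero] at hf'
    exact one_ne_zero hf'
  · intro hle
    have hQ0 : Q (pu e0 w1) = 0 := hpure _ _
    have hB0 : B (pu e0 w1) (pu e0 w2) = 0 := by rw [hB, hf₁.alternating, zero_mul]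
    have hg := hmem _ _ hQ0 hB0
    set g := sGL Q B (pu e0 w1) (pu e0 w2)
    have h0 : g.val *ᵥ pu e0 z = pu e0 z := by
      rw [sGL_act C hQ0 hB0, hB, hB, hpure, hf₁.alternating]
      simp
    have h1 : g.val *ᵥ pu e1 z = pu e1 z - pu e0 w1 := by
      rw [sGL_act C hQ0 hB0, hB, hB, hpure, h01, hz1, hz2]
      simp
    rcases (hle hg).1 with hc' | hc'
    · have := congrArg (fun y : GL ι F => y.val *ᵥ pu e0 z) (mul_inv_eq_iff_eq_mul.mp hc')
      simp only [mul_act, hJ, hj0, h0, h1] at this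
      rw [sub_eq_self, ← map_zero (pu e0)] at this
      exact hw1 (hinj' (a := w1) (b := 0) (a' := 0) (b' := 0) (by rw [this])).1
    · have := congrArg (fun y : GL ι F => y.val *ᵥ pu e0 z) (mul_inv_eq_iff_eq_mul.mp hc')
      simp only [mul_act, hJ, hj0, h0, h1, hJ', hj0', map_add, LinearMap.add_apply] at this
      have h3 : pu e0 (-w1) + pu e1 z = pu e0 z + pu e1 z := by
        rw [← this, map_neg]; abel
      have h4 := (hinj' h3).1
      have h5 : f₂ w2 (-w1) = f₂ w2 z := by rw [h4]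
      rw [hz2, ← neg_one_smul F w1, S₂.smul_right, h21, mul_zero] at h5
      exact zero_ne_one h5

end Two

end Cfsg.Lib.Linear.TensorFrame
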