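import Cfsg.Agent.Lib.Linear.Tensor.Frame
import Cfsg.Agent.Lib.Linear.PrimeClasses.Roots

/-!
# Elements of prime order in stabilisers of tensor decompositions

An element close to a scalar is scalar, and a semisimple element with simple eigenvalues has few of them.
-/

set_option autoImplicit false

universe u

namespace Cfsg.Lib.Linear.TensorElem

open Module Polynomial Cfsg.Lib.Linear Cfsg.Agent.Lib.Linear.PrimeClasses
open Cfsg.Lib.Linear.TensorFrame (pure₁)
open scoped Matrix Kronecker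

variable {F : Type u} [Field F] {ι : Type} [Fintype ι] [DecidableEq ι] {a b : ℕ}
  {e : ι ≃ Fin a × Fin b} {P : GL ι F}

theorem pure_coord {u : Fin a → F} {v : Fin b → F} {u' : Fin a → F} {v' : Fin b → F}
    (h : pure₁ e P u v = pure₁ e P u' v') (s : Fin a) (t : Fin b) : u s * v t = u' s * v' t := by
  simp only [pure₁, LinearMap.mk₂_apply] at h
  have h1 := congrArg (fun w => ((P⁻¹ : GL ι F) : Matrix ι ι F) *ᵥ w) h
  simp only [Matrix.mulVec_mulVec, Units.inv_mul, Matrix.one_mulVec] at h1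
  have h2 := congrFun h1 (e.symm (s, t))
  simpa using h2

/-- An element with small displacement is a scalar. -/
theorem scalar_of_small {g : GL ι F} (hg : g ∈ Cfsg.Geo.tensorProductSubgroup a b e P)
    (W : Submodule F (ι → F)) (hW : ∀ v, g.val *ᵥ v - v ∈ W) (ha : finrank F W < a) (hb : finrank F W < b) :
    ∃ z : F, g.val = z • 1 := by
  obtain ⟨A, B, hAB⟩ := TensorFrame.act₁ hg
  -- if a factor moves a line, the displacement is at least the size of the other factor
  have hbad : ∀ {n : ℕ} (φ : (Fin n → F) →ₗ[F] (ι → F)), (∀ v, φ v ∈ W) → finrank F W < n →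
      ∃ v, v ≠ 0 ∧ φ v = 0 := fun {n} φ hφ hn => by
    by_contra h
    push Not at h
    have hinj : Function.Injective (φ.codRestrict W hφ) := (injective_iff_map_eq_zero _).2 fun v hv => by
      by_contra hv0
      exact h v hv0 (congrArg Subtype.val hv)
    have := LinearMap.finrank_le_finrank_of_injective hinj
    rw [Module.finrank_fin_fun] at this
    omega
  have hA : ∀ u, ∃ c : F, A.val *ᵥ u = c • u := fun u => by
    obtain ⟨v, hv, hφ⟩ := hbad ((Matrix.toLin' g.val - LinearMap.id) ∘ₗ pure₁ e P u) (fun v => by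
      simpa using hW (pure₁ e P u v)) hb
    rw [LinearMap.comp_apply, LinearMap.sub_apply, Matrix.toLin'_apply, LinearMap.id_apply, hAB, sub_eq_zero] at hφ
    have hBv : B.val *ᵥ v ≠ 0 := fun h => hv (by
      have h1 := congrArg ((B⁻¹ : GL (Fin b) F).val *ᵥ ·) h
      simpa [Matrix.mulVec_mulVec] using h1)
    obtain ⟨t, ht⟩ := Function.ne_iff.1 hBv
    rw [Pi.zero_apply] at ht
    refine ⟨((B.val *ᵥ v) t)⁻¹ * v t, funext fun s => ?_⟩
    have h1 := pure_coord hφ s t
    rw [Pi.smul_apply, smul_eq_mul, mul_assoc, mul_comm (v t), ← h1, mul_comm, mul_inv_cancel_right₀ ht]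
  have hB : ∀ v, ∃ c : F, B.val *ᵥ v = c • v := fun v => by
    obtain ⟨u, hu, hφ⟩ := hbad ((Matrix.toLin' g.val - LinearMap.id) ∘ₗ (pure₁ e P).flip v) (fun u => by
      simpa using hW (pure₁ e P u v)) ha
    rw [LinearMap.comp_apply, LinearMap.sub_apply, Matrix.toLin'_apply, LinearMap.id_apply, LinearMap.flip_apply, hAB,
      sub_eq_zero] at hφ
    have hAu : A.val *ᵥ u ≠ 0 := fun h => hu (by
      have h1 := congrArg ((A⁻¹ : GL (Fin a) F).val *ᵥ ·) h
      simpa [Matrix.mulVec_mulVec] using h1)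
    obtain ⟨s, hs⟩ := Function.ne_iff.1 hAu
    rw [Pi.zero_apply] at hs
    refine ⟨((A.val *ᵥ u) s)⁻¹ * u s, funext fun t => ?_⟩
    have h1 := pure_coord hφ s t
    rw [Pi.smul_apply, smul_eq_mul, mul_assoc, ← h1, ← mul_assoc, inv_mul_cancel₀ hs, one_mul]
  -- a map fixing every line is scalar
  have hscal : ∀ {n : ℕ} (T : Matrix (Fin n) (Fin n) F), (∀ u, ∃ c : F, T *ᵥ u = c • u) → ∃ c : F, T = c • 1 := by
    intro n T hT
    obtain rfl | hn := Nat.eq_zero_or_pos n
    · exact ⟨0, Matrix.ext fun s => s.elim0⟩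
    choose c hc using hT
    have hdiag : ∀ s, T *ᵥ Pi.single s 1 = c (Pi.single s 1) • Pi.single s 1 := fun s => hc _
    refine ⟨c (Pi.single ⟨0, hn⟩ 1), Matrix.ext_iff_mulVec.2 fun v => ?_⟩
    have hall : ∀ s, c (Pi.single s 1) = c (Pi.single ⟨0, hn⟩ 1) := fun s => by
      by_cases hs : s = ⟨0, hn⟩
      · rw [hs]
      have h := hc (Pi.single s 1 + Pi.single ⟨0, hn⟩ 1)
      rw [Matrix.mulVec_add, hdiag, hdiag] at h
      have h1 := congrFun h s
      have h2 := congrFun h ⟨0, hn⟩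
      simp [hs, Ne.symm hs] at h1 h2
      rw [h1, h2]
    rw [Matrix.smul_mulVec, Matrix.one_mulVec]
    conv_lhs => rw [TensorFrame.Ses.expand v, Matrix.mulVec_sum]
    conv_rhs => rw [TensorFrame.Ses.expand v, Finset.smul_sum]
    exact Finset.sum_congr rfl fun s _ => by rw [Matrix.mulVec_smul, hdiag, hall, smul_comm]
  obtain ⟨α, hα⟩ := hscal _ hA
  obtain ⟨β, hβ⟩ := hscal _ hB
  refine ⟨α * β, Matrix.ext_iff_mulVec.2 fun x => ?_⟩
  obtain ⟨m, rfl⟩ := TensorFrame.span₁ (e := e) (P := P) x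
  rw [Matrix.smul_mulVec, Matrix.one_mulVec, Matrix.mulVec_sum, Finset.smul_sum]
  refine Finset.sum_congr rfl fun s _ => ?_
  rw [hAB, hα, hβ, Matrix.smul_mulVec, Matrix.one_mulVec, Matrix.smul_mulVec, Matrix.one_mulVec, map_smul, map_smul,
    LinearMap.smul_apply, smul_smul, mul_comm]

/-- The element attached to a pair of matrices acts on pure tensors. -/
theorem act_kron (A : Matrix (Fin a) (Fin a) F) (B : Matrix (Fin b) (Fin b) F) (k : GL (Fin a × Fin b) F)
    (hk : k.val = A ⊗ₖ B) (u : Fin a → F) (v : Fin b → F) :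
    (P * Cfsg.Geo.glReindex e.symm k * P⁻¹ : GL ι F).val *ᵥ pure₁ e P u v =
      pure₁ e P (A *ᵥ u) (B *ᵥ v) := by
  simp only [pure₁, LinearMap.mk₂_apply]
  rw [Matrix.mulVec_mulVec, ← Units.val_mul, inv_mul_cancel_right, Units.val_mul, ← Matrix.mulVec_mulVec]
  congr 1
  funext l
  show ∑ l', ((Cfsg.Geo.glReindex e.symm k : GL ι F) : Matrix ι ι F) l l' * _ = _
  rw [← e.symm.sum_comp, Fintype.sum_prod_type]
  show _ = (∑ i, A (e l).1 i * u i) * ∑ j, B (e l).2 j * v j
  rw [Finset.sum_mul_sum]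
  refine Finset.sum_congr rfl fun i _ => Finset.sum_congr rfl fun j _ => ?_
  simp [Cfsg.Geo.glReindex, hk, Matrix.kroneckerMap_apply]
  ring

/-- Diagonalisation of a matrix with scalar `r`-th power. -/
theorem exists_diag {L : Type u} [Field L] [IsAlgClosed L] {r : ℕ} (hr : 0 < r) (hrL : (r : L) ≠ 0) {n : ℕ}
    (T : Matrix (Fin n) (Fin n) L) {c : L} (hc : c ≠ 0) (hT : T ^ r = c • 1) :
    ∃ (U : GL (Fin n) L) (α : Fin n → L), T * U.val = U.val * Matrix.diagonal α := by
  classical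
  set T₂ : End L (Fin n → L) := Matrix.toLin' T
  have hss : T₂.IsSemisimple := by
    refine Module.End.isSemisimple_of_squarefree_aeval_eq_zero
      ((separable_X_pow_sub_C c hrL hc).squarefree) ?_
    rw [map_sub, map_pow, aeval_X, aeval_C, Algebra.algebraMap_eq_smul_one, ← Matrix.toLin'_pow, hT, map_smul,
      Matrix.toLin'_one, sub_eq_zero]
    rfl
  have htop : ⊤ ≤ Submodule.span L {v : Fin n → L | ∃ s : L, T *ᵥ v = s • v} := by
    rw [← Module.End.iSup_maxGenEigenspace_eq_top T₂]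
    refine iSup_le fun s v hv => Submodule.subset_span ⟨s, ?_⟩
    rw [hss.isFinitelySemisimple.maxGenEigenspace_eq_eigenspace] at hv
    rw [← Matrix.toLin'_apply]
    exact Module.End.mem_eigenspace_iff.1 hv
  let bs := Module.Basis.ofSpan htop
  let β := bs.reindex (bs.indexEquiv (Pi.basisFun L (Fin n)))
  have hev : ∀ t, ∃ s : L, T *ᵥ β t = s • β t := fun t => by
    have h : bs ((bs.indexEquiv (Pi.basisFun L (Fin n))).symm t) ∈ {v : Fin n → L | ∃ s : L, T *ᵥ v = s • v} :=
      Module.Basis.ofSpan_subset htop ⟨_, rfl⟩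
    obtain ⟨s, hs⟩ := h
    exact ⟨s, by simpa [β] using hs⟩
  choose α hα using hev
  let U := (Pi.basisFun L (Fin n)).toMatrix β
  have hU : ∀ s t, U s t = β t s := fun s t => by simp [U, Module.Basis.toMatrix_apply]
  refine ⟨⟨U, β.toMatrix (Pi.basisFun L (Fin n)), Module.Basis.toMatrix_mul_toMatrix_flip _ _,
    Module.Basis.toMatrix_mul_toMatrix_flip _ _⟩, α, Matrix.ext fun s t => ?_⟩
  show (T * U) s t = (U * Matrix.diagonal α) s t
  rw [Matrix.mul_diagonal, Matrix.mul_apply, hU]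
  rw [show ∑ l, T s l * U l t = (T *ᵥ β t) s from Finset.sum_congr rfl fun l _ => by rw [hU], hα, Pi.smul_apply,
    smul_eq_mul, mul_comm]

/-- Sums of two families with few coincidences. -/
theorem sums_bound {r : ℕ} [Fact r.Prime] (A : Fin a → ZMod r) (B : Fin b → ZMod r) (ha : 2 ≤ a) (hb : 2 ≤ b)
    (m : ZMod r → ℕ) (hm : ∀ x, (Finset.univ.filter fun st : Fin a × Fin b => A st.1 + B st.2 = x).card = m x)
    (h1 : ∀ x, x ≠ 0 → m x ≤ 1) {j : ZMod r} (hj0 : j ≠ 0) (hj : m j = 1) :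
    Function.Injective A ∧ Function.Injective B ∧ m 0 ≤ a ∧ m 0 ≤ b := by
  classical
  have huniq : ∀ p p' : Fin a × Fin b, A p.1 + B p.2 = A p'.1 + B p'.2 → A p.1 + B p.2 ≠ 0 → p = p' := by
    intro p p' he hne
    have h := (h1 _ hne)
    rw [← hm] at h
    exact Finset.card_le_one.1 h p (by simp) p' (by simp [he])
  obtain ⟨p, hp⟩ : ∃ p : Fin a × Fin b, A p.1 + B p.2 = j := by
    obtain ⟨p, hp⟩ := Finset.card_pos.1 (show 0 < (Finset.univ.filter fun st : Fin a × Fin b => A st.1 + B st.2 = j).card by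
      rw [hm, hj]; exact one_pos)
    exact ⟨p, (Finset.mem_filter.1 hp).2⟩
  have hA : Function.Injective A := fun s s' hs => by
    by_contra hne
    have hz : ∀ t, A s + B t = 0 := fun t => by
      by_contra h
      exact hne (congrArg Prod.fst (huniq (s, t) (s', t) (by simp [hs]) h))
    obtain ⟨t', ht'⟩ : ∃ t' : Fin b, t' ≠ p.2 := by
      by_contra h
      push Not at h
      have h3 := (h ⟨0, by omega⟩).trans (h ⟨1, by omega⟩).symm
      simp at h3
    refine ht' (congrArg Prod.snd (huniq (p.1, t') p ?_ ?_))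
    · show A p.1 + B t' = A p.1 + B p.2
      rw [show B t' = B p.2 by linear_combination hz t' - hz p.2]
    · show A p.1 + B t' ≠ 0
      rw [show B t' = B p.2 by linear_combination hz t' - hz p.2, hp]
      exact hj0
  have hB : Function.Injective B := fun t t' ht => by
    by_contra hne
    have hz : ∀ s, A s + B t = 0 := fun s => by
      by_contra h
      exact hne (congrArg Prod.snd (huniq (s, t) (s, t') (by simp [ht]) h))
    have h3 := hA (show A ⟨0, by omega⟩ = A ⟨1, by omega⟩ by linear_combination hz ⟨0, by omega⟩ - hz ⟨1, by omega⟩)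
    simp at h3
  refine ⟨hA, hB, ?_, ?_⟩
  · rw [← hm]
    refine le_of_le_of_eq ?_ ((Finset.card_univ (α := Fin a)).trans (Fintype.card_fin a))
    refine Finset.card_le_card_of_injOn Prod.fst (fun _ _ => Finset.mem_univ _) fun x hx y hy he => ?_
    simp only [Finset.coe_filter, Finset.mem_univ, true_and, Set.mem_setOf_eq] at hx hy
    exact Prod.ext he (hB (by rw [he] at hx; linear_combination hx - hy))
  · rw [← hm]
    refine le_of_le_of_eq ?_ ((Finset.card_univ (α := Fin b)).trans (Fintype.card_fin b))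
    refine Finset.card_le_card_of_injOn Prod.snd (fun _ _ => Finset.mem_univ _) fun x hx y hy he => ?_
    simp only [Finset.coe_filter, Finset.mem_univ, true_and, Set.mem_setOf_eq] at hx hy
    exact Prod.ext (hA (by rw [he] at hx; linear_combination hx - hy)) he

/-- A family of residues closed under an affine map is at least as large as the order of the multiplier. -/
theorem affine_bound {r : ℕ} [Fact r.Prime] (A : Fin a → ZMod r) (hA : Function.Injective A) (ha : 2 ≤ a)
    (Q : ZMod r) {i : ℕ} (hi : i = orderOf Q) (hi2 : 2 ≤ i) (δ : ZMod r) (hcl : ∀ s, ∃ s', A s' = Q * A s + δ) :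
    i ≤ a := by
  have hQ : 1 - Q ≠ 0 := fun h => by
    rw [sub_eq_zero] at h
    rw [← h, orderOf_one] at hi
    omega
  set x₀ := δ * (1 - Q)⁻¹
  have hx₀ : x₀ * (1 - Q) = δ := by rw [mul_assoc, inv_mul_cancel₀ hQ, mul_one]
  obtain ⟨s₀, hs₀⟩ : ∃ s, A s ≠ x₀ := by
    by_contra h
    push Not at h
    have h3 := hA ((h ⟨0, by omega⟩).trans (h ⟨1, by omega⟩).symm)
    simp at h3
  have horb : ∀ n : ℕ, ∃ s, A s - x₀ = Q ^ n * (A s₀ - x₀) := fun n => by
    induction n with
    | zero => exact ⟨s₀, by simp⟩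
    | succ n ih =>
      obtain ⟨s, hs⟩ := ih
      obtain ⟨s', hs'⟩ := hcl s
      exact ⟨s', by rw [hs', pow_succ']; linear_combination Q * hs - hx₀⟩
  choose f hf using horb
  have hinj : Function.Injective (fun n : Fin i => f n) := fun n n' he => by
    have h := hf n
    rw [show f n = f n' from he, hf n'] at h
    have h' := mul_right_cancel₀ (sub_ne_zero.2 hs₀) h
    refine Fin.ext (pow_injOn_Iio_orderOf ?_ ?_ h'.symm)
    · show (n : ℕ) < orderOf Q
      rw [← hi]; exact n.2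
    · show (n' : ℕ) < orderOf Q
      rw [← hi]; exact n'.2
  simpa using Fintype.card_le_of_injective _ hinj

/-- An element of order `r` whose nontrivial eigenvalues are simple. -/
theorem simple_bound [Fintype F] (p : ℕ) [Fact p.Prime] [CharP F p] {L : Type u} [Field L] [Algebra F L]
    [IsAlgClosed L] {r : ℕ} [Fact r.Prime] {ζ : L} (hζ : IsPrimitiveRoot ζ r) (hrL : (r : L) ≠ 0)
    (ha : 2 ≤ a) (hb : 2 ≤ b) {g : GL ι F} (hg : g ∈ Cfsg.Geo.tensorProductSubgroup a b e P) (hgr : g ^ r = 1)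
    {m : ZMod r → ℕ} (hm : g.val.charpoly.map (algebraMap F L) = Pm ζ m) (h1 : ∀ x, x ≠ 0 → m x ≤ 1)
    {j : ZMod r} (hj0 : j ≠ 0) (hj : m j = 1) {i : ℕ} (hi : i = orderOf (Fintype.card F : ZMod r)) :
    m 0 ≤ a ∧ m 0 ≤ b ∧ (2 ≤ i → i ≤ a ∧ i ≤ b) := by
  classical
  obtain ⟨_, ⟨k, ⟨A, B, hk⟩, rfl⟩, rfl⟩ := hg
  set φ := algebraMap F L
  have hr0 : 0 < r := (Fact.out : r.Prime).pos
  have hkr : k ^ r = 1 := by
    rw [← map_pow, ← map_pow] at hgr
    have h := (MulAut.conj P).injective (hgr.trans (map_one _).symm)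
    exact (Cfsg.Geo.glReindex (F := F) e.symm).injective (h.trans (map_one _).symm)
  have hkr' : (A.val ^ r) ⊗ₖ (B.val ^ r) = 1 := by
    have h : ∀ n : ℕ, (k ^ n).val = (A.val ^ n) ⊗ₖ (B.val ^ n) := fun n => by
      induction n with
      | zero => simp
      | succ n ih => rw [pow_succ, Units.val_mul, ih, hk, ← Matrix.mul_kronecker_mul, pow_succ, pow_succ]
    rw [← h, hkr, Units.val_one]
  let s₀ : Fin a := ⟨0, by omega⟩
  let t₀ : Fin b := ⟨0, by omega⟩
  have hentry : ∀ (s s' : Fin a) (t t' : Fin b), (A.val ^ r) s s' * (B.val ^ r) t t' = if s = s' ∧ t = t' then 1 else 0 := by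
    intro s s' t t'
    have h := congrFun (congrFun hkr' (s, t)) (s', t')
    simpa [Matrix.kroneckerMap_apply, Matrix.one_apply] using h
  obtain ⟨la, hla, hAr⟩ : ∃ la : F, la ≠ 0 ∧ A.val ^ r = la • 1 := by
    have hne : (B.val ^ r) t₀ t₀ ≠ 0 := fun h => by simpa [h] using hentry s₀ s₀ t₀ t₀
    refine ⟨((B.val ^ r) t₀ t₀)⁻¹, inv_ne_zero hne, Matrix.ext fun s s' => ?_⟩
    have h := hentry s s' t₀ t₀
    simp only [and_true] at h
    rw [Matrix.smul_apply, Matrix.one_apply, ← h, smul_eq_mul, mul_comm, mul_inv_cancel_right₀ hne]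
  obtain ⟨lb, hlb, hBr⟩ : ∃ lb : F, lb ≠ 0 ∧ B.val ^ r = lb • 1 := by
    have hne : (A.val ^ r) s₀ s₀ ≠ 0 := fun h => by simpa [h] using hentry s₀ s₀ t₀ t₀
    refine ⟨((A.val ^ r) s₀ s₀)⁻¹, inv_ne_zero hne, Matrix.ext fun t t' => ?_⟩
    have h := hentry s₀ s₀ t t'
    simp only [true_and] at h
    rw [Matrix.smul_apply, Matrix.one_apply, ← h, smul_eq_mul, ← mul_assoc, inv_mul_cancel₀ hne, one_mul]
  have hmap : ∀ {n : ℕ} (T : Matrix (Fin n) (Fin n) F) (c : F), T ^ r = c • 1 → T.map φ ^ r = φ c • 1 := by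
    intro n T c hT
    rw [← RingHom.mapMatrix_apply, ← map_pow, hT, RingHom.mapMatrix_apply, Matrix.map_smul' φ _ _ (map_mul φ),
      Matrix.map_one _ (map_zero φ) (map_one φ)]
  obtain ⟨U, α, hU⟩ := exists_diag hr0 hrL (A.val.map φ) ((map_ne_zero φ).2 hla) (hmap _ _ hAr)
  obtain ⟨V, β, hV⟩ := exists_diag hr0 hrL (B.val.map φ) ((map_ne_zero φ).2 hlb) (hmap _ _ hBr)
  have hchar : Pm ζ m = ∏ st : Fin a × Fin b, (X - C (α st.1 * β st.2)) := by
    rw [← hm]
    show ((P * Cfsg.Geo.glReindex e.symm k * P⁻¹ : GL ι F) : Matrix ι ι F).charpoly.map φ = _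
    rw [Units.val_mul, Units.val_mul, Matrix.coe_units_inv, Matrix.charpoly_units_conj,
      show ((Cfsg.Geo.glReindex e.symm k : GL ι F) : Matrix ι ι F) = Matrix.reindex e.symm e.symm k.val from rfl,
      Matrix.charpoly_reindex, hk, ← Matrix.charpoly_map,
      show (A.val ⊗ₖ B.val).map φ = (A.val.map φ) ⊗ₖ (B.val.map φ) from Matrix.ext fun x y => by
        simp [Matrix.kroneckerMap_apply]]
    have hUV : IsUnit (U.val ⊗ₖ V.val) :=
      ⟨⟨U.val ⊗ₖ V.val, (U⁻¹).val ⊗ₖ (V⁻¹).val, by rw [← Matrix.mul_kronecker_mul, Units.mul_inv, Units.mul_inv,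
        Matrix.one_kronecker_one], by rw [← Matrix.mul_kronecker_mul, Units.inv_mul, Units.inv_mul,
        Matrix.one_kronecker_one]⟩, rfl⟩
    obtain ⟨W, hW⟩ := hUV
    rw [← Matrix.charpoly_units_conj' W, ← Matrix.charpoly_diagonal]
    congr 1
    rw [mul_assoc, hW, ← Matrix.mul_kronecker_mul, hU, hV, Matrix.mul_kronecker_mul, ← hW, ← mul_assoc,
      ← Matrix.coe_units_inv, Units.inv_mul, one_mul, Matrix.diagonal_kronecker_diagonal]
  have hroots : ∀ x : L, (Pm ζ m).rootMultiplicity x =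
      (Finset.univ.filter fun st : Fin a × Fin b => x = α st.1 * β st.2).card := fun x => by
    rw [hchar, ← count_roots, show (∏ st : Fin a × Fin b, (X - C (α st.1 * β st.2))) =
      ((Finset.univ.val.map fun st : Fin a × Fin b => α st.1 * β st.2).map fun c => X - C c).prod by
        rw [Multiset.map_map]; rfl, roots_multiset_prod_X_sub_C, Multiset.count_map]
    rfl
  have hab1 : ∀ s t, ∃ x : ZMod r, α s * β t = zp ζ x := fun s t => by
    have h0 : 0 < (Pm ζ m).rootMultiplicity (α s * β t) := by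
      rw [hroots]; exact Finset.card_pos.2 ⟨(s, t), by simp⟩
    rw [← count_roots] at h0
    obtain ⟨x, -, hx⟩ : ∃ x ∈ Finset.univ, IsRoot ((X - C (zp ζ x)) ^ m x) (α s * β t) := by
      have h := (mem_roots'.1 (Multiset.count_pos.1 h0)).2
      unfold Pm at h
      rw [IsRoot, eval_prod, Finset.prod_eq_zero_iff] at h
      exact h
    rw [IsRoot, eval_pow] at hx
    exact ⟨x, by simpa [sub_eq_zero] using eq_zero_of_pow_eq_zero hx⟩
  choose G hG using hab1
  have hzne : ∀ x : ZMod r, zp ζ x ≠ 0 := fun x h => by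
    have h' := zp_add hζ x (-x)
    rw [add_neg_cancel, zp_zero, h, zero_mul] at h'
    exact one_ne_zero h'
  have hzinj : Function.Injective (zp ζ : ZMod r → L) := fun x y h => by
    have h1 : (ζ ^ x.val) = ζ ^ y.val := h
    exact ZMod.val_injective r (hζ.pow_inj (ZMod.val_lt x) (ZMod.val_lt y) h1)
  have hα : ∀ s, α s ≠ 0 := fun s h => hzne _ (by rw [← hG s t₀, h, zero_mul])
  have hβ : ∀ t, β t ≠ 0 := fun t h => hzne _ (by rw [← hG s₀ t, h, mul_zero])
  let Ae : Fin a → ZMod r := fun s => G s t₀ - G s₀ t₀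
  let Be : Fin b → ZMod r := fun t => G s₀ t
  have hdec : ∀ s t, α s * β t = zp ζ (Ae s + Be t) := fun s t => by
    have h : (α s * β t) * (α s₀ * β t₀) = zp ζ (G s t₀ + G s₀ t) := by
      rw [zp_add hζ, ← hG, ← hG]; ring
    rw [hG s₀ t₀, show G s t₀ + G s₀ t = (Ae s + Be t) + G s₀ t₀ by simp only [Ae, Be]; ring, zp_add hζ] at h
    exact mul_right_cancel₀ (hzne _) h
  have hcount : ∀ x, (Finset.univ.filter fun st : Fin a × Fin b => Ae st.1 + Be st.2 = x).card = m x := fun x => by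
    rw [← count_roots_Pm hζ m x, hroots]
    refine congrArg Finset.card (Finset.filter_congr fun st _ => ?_)
    rw [hdec]
    exact ⟨fun h => by rw [h], fun h => (hzinj h).symm⟩
  obtain ⟨hA, hB, h0a, h0b⟩ := sums_bound Ae Be ha hb m hcount h1 hj0 hj
  refine ⟨h0a, h0b, fun hi2 => ?_⟩
  -- Frobenius closure
  set q := Fintype.card F with hq
  haveI : CharP L p := charP_of_injective_algebraMap φ.injective p
  obtain ⟨f, hpp, hf⟩ := FiniteField.card F p
  let fr : L →+* L := iterateFrobenius L p f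
  have hfr : ∀ x : L, fr x = x ^ q := fun x => by rw [hq, hf]; exact iterateFrobenius_def p f x
  have hfix : ∀ x : F, fr (φ x) = φ x := fun x => by rw [hfr, ← map_pow, hq, FiniteField.pow_card]
  have hclosed : ∀ {n : ℕ} (T : Matrix (Fin n) (Fin n) F) (W : GL (Fin n) L) (γ : Fin n → L),
      T.map φ * W.val = W.val * Matrix.diagonal γ → ∀ s, ∃ s', γ s' = γ s ^ q := by
    intro n T W γ hW s
    have hc : T.charpoly.map φ = ∏ t, (X - C (γ t)) := by
      rw [← Matrix.charpoly_map, ← Matrix.charpoly_units_conj' W, mul_assoc, hW, ← mul_assoc, ← Matrix.coe_units_inv,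
        Units.inv_mul, one_mul, Matrix.charpoly_diagonal]
    have h2 : (T.charpoly.map φ).eval (γ s ^ q) = 0 := by
      rw [← hfr, eval_map, ← show T.charpoly.eval₂ (fr.comp φ) (fr (γ s)) = T.charpoly.eval₂ φ (fr (γ s)) by
        rw [show fr.comp φ = φ from RingHom.ext hfix], ← Polynomial.hom_eval₂, ← eval_map, hc, eval_prod,
        Finset.prod_eq_zero (Finset.mem_univ s) (by simp), map_zero]
    rw [hc, eval_prod, Finset.prod_eq_zero_iff] at h2
    obtain ⟨s', -, hs'⟩ := h2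
    exact ⟨s', by simp [sub_eq_zero] at hs'; exact hs'.symm⟩
  have hzq : ∀ x, zp ζ x ^ q = zp ζ ((q : ZMod r) * x) := fun x => zp_pow hζ x q
  constructor
  · obtain ⟨s₁, hs₁⟩ := hclosed _ U α hU s₀
    refine affine_bound Ae hA ha (q : ZMod r) hi hi2 (Ae s₁) fun s => ?_
    obtain ⟨s', hs'⟩ := hclosed _ U α hU s
    refine ⟨s', hzinj (mul_right_cancel₀ (hzne (Be t₀)) ?_)⟩
    have e : ∀ u, α u = α s₀ * zp ζ (Ae u) := fun u => by
      refine mul_right_cancel₀ (hβ t₀) ?_
      rw [mul_assoc, mul_comm (zp ζ _), ← mul_assoc, hdec, hdec, ← zp_add hζ]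
      congr 1
      simp only [Ae]; ring
    have h3 : α s₀ * zp ζ (Ae s') = α s₀ * (zp ζ (Ae s₁) * zp ζ ((q : ZMod r) * Ae s)) := by
      rw [← e, hs', e s, mul_pow, ← hs₁, e s₁, hzq]; ring
    rw [mul_left_cancel₀ (hα s₀) h3, ← zp_add hζ, add_comm (Ae s₁)]
  · obtain ⟨t₁, ht₁⟩ := hclosed _ V β hV t₀
    refine affine_bound (fun t => Be t - Be t₀) (fun t t' h => hB (by simpa using h)) hb (q : ZMod r) hi hi2
      (Be t₁ - Be t₀) fun t => ?_
    obtain ⟨t', ht'⟩ := hclosed _ V β hV t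
    refine ⟨t', hzinj ?_⟩
    have e : ∀ u, β u = β t₀ * zp ζ (Be u - Be t₀) := fun u => by
      refine mul_left_cancel₀ (hα s₀) ?_
      rw [← mul_assoc, hdec, hdec, ← zp_add hζ]
      congr 1
      ring
    have h3 : β t₀ * zp ζ (Be t' - Be t₀) = β t₀ * (zp ζ (Be t₁ - Be t₀) * zp ζ ((q : ZMod r) * (Be t - Be t₀))) := by
      rw [← e, ht', e t, mul_pow, ← ht₁, e t₁, hzq]; ring
    rw [mul_left_cancel₀ (hβ t₀) h3, ← zp_add hζ, add_comm (Be t₁ - Be t₀)]

end Cfsg.Lib.Linear.TensorElem
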