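import Mathlib
import Cfsg.Prelude.Def_GeometricClasses

/-!
# Tensor decompositions with a factor that has a canonical orthogonal frame

If every similarity of one factor permutes the lines of a frame, the stabiliser of the tensor
decomposition in an isometry group lies properly inside the stabiliser of a block decomposition.
-/

set_option autoImplicit false

namespace Cfsg.Lib.Linear.TensorFrame

open Module
open scoped Matrix Kronecker

variable {ι : Type} [Fintype ι] [DecidableEq ι] {F : Type*} [Field F] {r m : ℕ}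

/-- A form linear in the first and `σ`-semilinear in the second argument. -/
structure Ses {V : Type*} [AddCommGroup V] [Module F V] (σ : F →+* F) (f : V → V → F) : Prop where
  add_left : ∀ x y v, f (x + y) v = f x v + f y v
  smul_left : ∀ (c : F) (x v : V), f (c • x) v = c * f x v
  add_right : ∀ v x y, f v (x + y) = f v x + f v y
  smul_right : ∀ (c : F) (v x : V), f v (c • x) = σ c * f v x

namespace Ses

variable {V : Type*} [AddCommGroup V] [Module F V] {σ : F →+* F} {f : V → V → F}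

theorem zero_left (S : Ses σ f) (v : V) : f 0 v = 0 := by simpa using S.smul_left 0 0 v

theorem zero_right (S : Ses σ f) (v : V) : f v 0 = 0 := by simpa using S.smul_right 0 v 0

theorem sum_left (S : Ses σ f) {κ : Type*} (s : Finset κ) (x : κ → V) (v : V) :
    f (∑ a ∈ s, x a) v = ∑ a ∈ s, f (x a) v := by
  classical
  induction s using Finset.induction_on with
  | empty => simp [S.zero_left]
  | insert a t ha ih => rw [Finset.sum_insert ha, Finset.sum_insert ha, S.add_left, ih]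

theorem sum_right (S : Ses σ f) {κ : Type*} (s : Finset κ) (x : κ → V) (v : V) :
    f v (∑ a ∈ s, x a) = ∑ a ∈ s, f v (x a) := by
  classical
  induction s using Finset.induction_on with
  | empty => simp [S.zero_right]
  | insert a t ha ih => rw [Finset.sum_insert ha, Finset.sum_insert ha, S.add_right, ih]

theorem expand {κ : Type} [Fintype κ] [DecidableEq κ] (x : κ → F) :
    x = ∑ a, x a • Pi.single a (1 : F) := by
  funext i
  simp [Finset.sum_apply, Pi.single_apply]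

theorem formOfGram_eq {κ : Type} [Fintype κ] [DecidableEq κ] {f : (κ → F) → (κ → F) → F}
    (S : Ses σ f) (x y : κ → F) :
    Cfsg.Geo.formOfGram σ (Cfsg.Geo.gramMatrix f) x y = f x y := by
  conv_rhs => rw [expand x, S.sum_left]
  refine Finset.sum_congr rfl fun a _ => ?_
  rw [S.smul_left]
  conv_rhs => rw [expand y, S.sum_right, Finset.mul_sum]
  refine Finset.sum_congr rfl fun b _ => ?_
  rw [S.smul_right, Cfsg.Geo.gramMatrix]
  ring

end Ses

/-- Every similarity of `h` permutes the lines of the frame `v`. -/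
def FrameRule (h : (Fin r → F) → (Fin r → F) → F) (v : Fin r → Fin r → F) : Prop :=
  ∀ (A : GL (Fin r) F) (lam : F), lam ≠ 0 →
    (∀ a a', h (A.val *ᵥ a) (A.val *ᵥ a') = lam * h a a') →
    ∀ i, ∃ (j : Fin r) (μ : F), A.val *ᵥ v i = μ • v j

/-- A bilinear map `(a, b) ↦ a ⊗ b` identifying `F^ι` with `F^r ⊗ F^m`, compatible with the forms. -/
structure Pairing (f : (ι → F) → (ι → F) → F) (h₁ : (Fin r → F) → (Fin r → F) → F)
    (h₂ : (Fin m → F) → (Fin m → F) → F) (G : Subgroup (GL ι F))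
    (pu : (Fin r → F) →ₗ[F] (Fin m → F) →ₗ[F] (ι → F)) : Prop where
  card : r * m = Fintype.card ι
  span : ∀ x, ∃ a : Fin r → Fin m → F, x = ∑ i, pu (Pi.single i 1) (a i)
  form : ∃ c : F, c ≠ 0 ∧ ∀ a b a' b', f (pu a b) (pu a' b') = c * (h₁ a a' * h₂ b b')
  act : ∀ g ∈ G, ∃ (A : GL (Fin r) F) (B : GL (Fin m) F),
    ∀ a b, g.val *ᵥ pu a b = pu (A.val *ᵥ a) (B.val *ᵥ b)

/-- The map from blocks to the space attached to a frame. -/
def phi (pu : (Fin r → F) →ₗ[F] (Fin m → F) →ₗ[F] (ι → F)) (v : Fin r → Fin r → F) :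
    (Fin r → Fin m → F) →ₗ[F] (ι → F) :=
  ∑ i, (pu (v i)) ∘ₗ LinearMap.proj i

theorem phi_single (pu : (Fin r → F) →ₗ[F] (Fin m → F) →ₗ[F] (ι → F)) (v : Fin r → Fin r → F)
    (i : Fin r) (a : Fin m → F) : phi pu v (Pi.single i a) = pu (v i) a := by
  classical
  rw [phi, LinearMap.sum_apply, Finset.sum_eq_single i
    (fun l _ hl => by simp [Pi.single_eq_of_ne hl]) (fun h => absurd (Finset.mem_univ i) h)]
  simp

theorem phi_apply (pu : (Fin r → F) →ₗ[F] (Fin m → F) →ₗ[F] (ι → F)) (v : Fin r → Fin r → F)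
    (y : Fin r → Fin m → F) : phi pu v y = ∑ i, pu (v i) (y i) := by
  simp [phi]

variable {f : (ι → F) → (ι → F) → F} {h₁ : (Fin r → F) → (Fin r → F) → F}
  {h₂ : (Fin m → F) → (Fin m → F) → F} {G : Subgroup (GL ι F)}
  {pu : (Fin r → F) →ₗ[F] (Fin m → F) →ₗ[F] (ι → F)} {v : Fin r → Fin r → F}

theorem Pairing.bijective (T : Pairing f h₁ h₂ G pu) (hv : LinearIndependent F v) :
    Function.Bijective (phi pu v) := by
  have htop : Submodule.span F (Set.range v) = ⊤ := hv.span_eq_top_of_card_eq_finrank' (by simp)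
  have hs : Function.Surjective (phi pu v) := fun x => by
    obtain ⟨a, rfl⟩ := T.span x
    have : ∀ l : Fin r, ∃ d : Fin r → F, ∑ i, d i • v i = Pi.single l 1 := fun l =>
      (Submodule.mem_span_range_iff_exists_fun F).mp (htop ▸ Submodule.mem_top)
    choose d hd using this
    refine ⟨fun i => ∑ l, d l i • a l, ?_⟩
    simp only [phi_apply, map_sum, map_smul]
    rw [Finset.sum_comm]
    refine Finset.sum_congr rfl fun l _ => ?_
    rw [← hd l, map_sum, LinearMap.sum_apply]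
    simp only [map_smul, LinearMap.smul_apply]
  refine ⟨(LinearMap.injective_iff_surjective_of_finrank_eq_finrank ?_).mpr hs, hs⟩
  simp [Module.finrank_pi_fintype, T.card]

/-- Vectors lying in a single block. -/
def oneBlock (pu : (Fin r → F) →ₗ[F] (Fin m → F) →ₗ[F] (ι → F)) (v : Fin r → Fin r → F) :
    Set (ι → F) := {x | ∃ i a, x = pu (v i) a}

theorem Pairing.keeps {σ : F →+* F} (T : Pairing f h₁ h₂ G pu) (S₂ : Ses σ h₂)
    (hR : FrameRule h₁ v) (hd : ∃ b b', h₂ b b' ≠ 0) (hd₁ : ∃ a a', h₁ a a' ≠ 0) {g : GL ι F}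
    (hg : g ∈ G) (hf : ∀ x y, f (g.val *ᵥ x) (g.val *ᵥ y) = f x y) :
    ∀ x ∈ oneBlock pu v, g.val *ᵥ x ∈ oneBlock pu v := by
  obtain ⟨c, hc, hform⟩ := T.form
  obtain ⟨A, B, hAB⟩ := T.act g hg
  obtain ⟨b, b', hb⟩ := hd
  obtain ⟨a₀, a₀', ha⟩ := hd₁
  have key : ∀ a a', h₁ (A.val *ᵥ a) (A.val *ᵥ a') * h₂ (B.val *ᵥ b) (B.val *ᵥ b') = h₁ a a' * h₂ b b' := by
    intro a a'
    have := hf (pu a b) (pu a' b')
    rw [hAB, hAB, hform, hform] at this
    exact mul_left_cancel₀ hc this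
  have h0 : h₂ (B.val *ᵥ b) (B.val *ᵥ b') ≠ 0 := fun h => by
    have := key a₀ a₀'
    rw [h, mul_zero] at this
    exact mul_ne_zero ha hb this.symm
  have hA := hR A (h₂ b b' / h₂ (B.val *ᵥ b) (B.val *ᵥ b')) (div_ne_zero hb h0) fun a a' => by
    rw [div_mul_eq_mul_div, eq_div_iff h0, key, mul_comm]
  rintro _ ⟨i, a, rfl⟩
  obtain ⟨j, μ, hj⟩ := hA i
  refine ⟨j, μ • (B.val *ᵥ a), ?_⟩
  rw [hAB, hj, map_smul, LinearMap.smul_apply, map_smul]

/-- The main criterion. -/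
theorem not_max {σ : F →+* F} (T : Pairing f h₁ h₂ G pu) (S₂ : Ses σ h₂) (hR : FrameRule h₁ v)
    (hd : ∃ b b', h₂ b b' ≠ 0) (hd₁ : ∃ a a', h₁ a a' ≠ 0) (hv : LinearIndependent F v) [Finite F]
    {I : Subgroup (GL ι F)} (hI : ∀ g ∈ I, ∀ x y, f (g.val *ᵥ x) (g.val *ᵥ y) = f x y)
    (i₀ i₁ : Fin r) (hne : i₀ ≠ i₁)
    (hin : ∃ g ∈ I, ∃ S : (Fin m → F) → Fin m → F, (∀ a, g.val *ᵥ pu (v i₀) a = pu (v i₀) (S a)) ∧
      (∀ i, i ≠ i₀ → ∀ a, g.val *ᵥ pu (v i) a = pu (v i) a) ∧ ∀ μ : F, ∃ a, S a ≠ μ • a)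
    (hout : ∃ g ∈ I, ∃ (a : Fin m → F) (y : Fin r → Fin m → F),
      g.val *ᵥ pu (v i₀) a = phi pu v y ∧ y i₀ ≠ 0 ∧ y i₁ ≠ 0) :
    ∃ K : Subgroup (GL ι F), G ⊓ I < K ∧ K < I := by
  classical
  obtain ⟨hinj, hsur⟩ := T.bijective hv
  have stab : ∀ g : GL ι F, (∀ x ∈ oneBlock pu v, g.val *ᵥ x ∈ oneBlock pu v) →
      g ∈ Cfsg.stabilizing (Cfsg.glToMat ι F) (oneBlock pu v) := by
    intro g hg
    have hb := ((Set.finite_univ.subset (Set.subset_univ (oneBlock pu v))).injOn_iff_bijOn_of_mapsTo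
      hg).mp (fun x _ y _ h => by
        have := congrArg (fun z => (g⁻¹ : GL ι F).val *ᵥ z) h
        simpa [Matrix.mulVec_mulVec, ← Units.val_mul] using this)
    refine fun x => ⟨hg x, fun hx => ?_⟩
    obtain ⟨z, hz, he⟩ := hb.surjOn hx
    have := congrArg (fun z => (g⁻¹ : GL ι F).val *ᵥ z) he
    simp [Matrix.mulVec_mulVec, ← Units.val_mul] at this
    exact this ▸ hz
  refine ⟨Cfsg.stabilizing (Cfsg.glToMat ι F) (oneBlock pu v) ⊓ I,
    lt_of_le_not_ge (fun g hg => ⟨stab g (T.keeps S₂ hR hd hd₁ hg.1 (hI g hg.2)), hg.2⟩) ?_,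
    lt_of_le_not_ge inf_le_right ?_⟩
  · intro hle
    obtain ⟨g, hgI, S, hS, hfix, hns⟩ := hin
    have hgK : g ∈ Cfsg.stabilizing (Cfsg.glToMat ι F) (oneBlock pu v) := stab g fun x hx => by
      obtain ⟨i, a, rfl⟩ := hx
      by_cases h : i = i₀
      · subst h; exact ⟨i, S a, hS a⟩
      · exact ⟨i, a, hfix i h a⟩
    obtain ⟨A, B, hAB⟩ := T.act g (hle ⟨hgK, hgI⟩).1
    have coord : ∀ (i : Fin r) (x : Fin m → F) (d : Fin r → F) (a : Fin m → F),
        pu (∑ l, d l • v l) a = pu (v i) x → d i • a = x := fun i x d a h => by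
      have h1 : phi pu v (fun l => d l • a) = phi pu v (Pi.single i x) := by
        rw [phi_single, phi_apply, ← h, map_sum, LinearMap.sum_apply]
        simp
      have := congrFun (hinj h1) i
      rwa [Pi.single_eq_same] at this
    have htop : Submodule.span F (Set.range v) = ⊤ := hv.span_eq_top_of_card_eq_finrank' (by simp)
    have hex : ∀ i, ∃ d : Fin r → F, ∑ l, d l • v l = A.val *ᵥ v i := fun i =>
      (Submodule.mem_span_range_iff_exists_fun F).mp (htop ▸ Submodule.mem_top)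
    choose d hd' using hex
    have e1 : ∀ a, d i₁ i₁ • (B.val *ᵥ a) = a := fun a =>
      coord i₁ a (d i₁) _ (by rw [hd', ← hAB, hfix i₁ (Ne.symm hne)])
    have e0 : ∀ a, d i₀ i₀ • (B.val *ᵥ a) = S a := fun a =>
      coord i₀ _ (d i₀) _ (by rw [hd', ← hAB, hS])
    obtain ⟨a, ha⟩ := hns (d i₀ i₀ / d i₁ i₁)
    refine ha ?_
    have h0 : d i₁ i₁ ≠ 0 := fun h => by
      have hz : a = 0 := by rw [← e1 a, h, zero_smul]
      exact ha (by rw [← e0, hz, Matrix.mulVec_zero, smul_zero, smul_zero])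
    conv_rhs => rw [← e1 a, smul_smul, div_mul_cancel₀ _ h0]
    exact (e0 a).symm
  · intro hle
    obtain ⟨g, hgI, a, y, hy, h0, h1⟩ := hout
    obtain ⟨i, b, hb⟩ := ((hle hgI).1 (pu (v i₀) a)).mp ⟨i₀, a, rfl⟩
    have : y = Pi.single i b := hinj (by
      rw [phi_single, ← hb, Units.coeHom_apply, hy])
    by_cases hi : i = i₀
    · exact h1 (by rw [this, Pi.single_eq_of_ne (by rw [hi]; exact Ne.symm hne)])
    · exact h0 (by rw [this, Pi.single_eq_of_ne (Ne.symm hi)])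

/-- The map `(a, b) ↦ P ((a ⊗ b) ∘ e)`. -/
def pure₁ {n₁ n₂ : ℕ} (e : ι ≃ Fin n₁ × Fin n₂) (P : GL ι F) :
    (Fin n₁ → F) →ₗ[F] (Fin n₂ → F) →ₗ[F] (ι → F) :=
  LinearMap.mk₂ F (fun a b => P.val *ᵥ ((fun l : Fin n₁ × Fin n₂ => a l.1 * b l.2) ∘ e))
    (fun a a' b => by rw [← Matrix.mulVec_add]; congr 1; funext l; simp [add_mul])
    (fun c a b => by rw [← Matrix.mulVec_smul]; congr 1; funext l; simp [mul_assoc])
    (fun a b b' => by rw [← Matrix.mulVec_add]; congr 1; funext l; simp [mul_add])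
    (fun c a b => by rw [← Matrix.mulVec_smul]; congr 1; funext l; simp [mul_left_comm])

section Build

variable {n₁ n₂ : ℕ} {σ : F →+* F} {f₁ : (Fin n₁ → F) → (Fin n₁ → F) → F}
  {f₂ : (Fin n₂ → F) → (Fin n₂ → F) → F} {e : ι ≃ Fin n₁ × Fin n₂} {P : GL ι F}

theorem card_eq (e : ι ≃ Fin n₁ × Fin n₂) : n₁ * n₂ = Fintype.card ι := by
  simp [Fintype.card_congr e]

theorem span₁ (x : ι → F) : ∃ a : Fin n₁ → Fin n₂ → F,
    x = ∑ i, pure₁ e P (Pi.single i 1) (a i) := by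
  refine ⟨fun i j => ((P⁻¹ : GL ι F).val *ᵥ x) (e.symm (i, j)), ?_⟩
  simp only [pure₁, LinearMap.mk₂_apply, ← Matrix.mulVec_sum]
  conv_lhs => rw [show x = P.val *ᵥ ((P⁻¹ : GL ι F).val *ᵥ x) by
    rw [Matrix.mulVec_mulVec, ← Units.val_mul, mul_inv_cancel, Units.val_one, Matrix.one_mulVec]]
  congr 1
  funext l
  rw [Finset.sum_apply, Finset.sum_eq_single (e l).1
    (fun i _ hi => by simp [Pi.single_eq_of_ne (Ne.symm hi)])
    (fun h => absurd (Finset.mem_univ _) h)]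
  simp

theorem form₁ (S₁ : Ses σ f₁) (S₂ : Ses σ f₂)
    (hT : Cfsg.Geo.IsTensorFormStructure (σ : F → F) f f₁ f₂ e P) :
    ∃ c : F, c ≠ 0 ∧ ∀ a b a' b', f (pure₁ e P a b) (pure₁ e P a' b') =
      c * (f₁ a a' * f₂ b b') := by
  obtain ⟨c, hc, h⟩ := hT
  refine ⟨c, hc, fun a b a' b' => ?_⟩
  simp only [pure₁, LinearMap.mk₂_apply]
  rw [h, ← S₁.formOfGram_eq a a', ← S₂.formOfGram_eq b b']
  congr 1
  simp only [Cfsg.Geo.formOfGram, Fintype.sum_prod_type]
  rw [Finset.sum_mul_sum]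
  refine Finset.sum_congr rfl fun i _ => Finset.sum_congr rfl fun l _ => ?_
  rw [Finset.sum_mul_sum]
  refine Finset.sum_congr rfl fun x _ => Finset.sum_congr rfl fun y _ => ?_
  rw [Matrix.kroneckerMap_apply, map_mul]
  ring

theorem act₁ {g : GL ι F} (hg : g ∈ Cfsg.Geo.tensorProductSubgroup n₁ n₂ e P) :
    ∃ (A : GL (Fin n₁) F) (B : GL (Fin n₂) F), ∀ a b,
      g.val *ᵥ pure₁ e P a b = pure₁ e P (A.val *ᵥ a) (B.val *ᵥ b) := by
  obtain ⟨_, ⟨k, ⟨A, B, hk⟩, rfl⟩, rfl⟩ := hg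
  refine ⟨A, B, fun a b => ?_⟩
  simp only [pure₁, LinearMap.mk₂_apply]
  show ((P * Cfsg.Geo.glReindex e.symm k * P⁻¹ : GL ι F) : Matrix ι ι F) *ᵥ (P.val *ᵥ _) = _
  rw [Matrix.mulVec_mulVec, ← Units.val_mul, inv_mul_cancel_right, Units.val_mul,
    ← Matrix.mulVec_mulVec]
  congr 1
  funext l
  show ∑ l', ((Cfsg.Geo.glReindex e.symm k : GL ι F) : Matrix ι ι F) l l' * _ = _
  rw [← e.symm.sum_comp, Fintype.sum_prod_type]
  show _ = (∑ i, A.val (e l).1 i * a i) * ∑ j, B.val (e l).2 j * b j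
  rw [Finset.sum_mul_sum]
  refine Finset.sum_congr rfl fun i _ => Finset.sum_congr rfl fun j _ => ?_
  simp [Cfsg.Geo.glReindex, hk, Matrix.kroneckerMap_apply]
  ring

/-- The pairing with the first factor as frame factor. -/
theorem pairing₁ (S₁ : Ses σ f₁) (S₂ : Ses σ f₂)
    (hT : Cfsg.Geo.IsTensorFormStructure (σ : F → F) f f₁ f₂ e P) :
    Pairing f f₁ f₂ (Cfsg.Geo.tensorProductSubgroup n₁ n₂ e P) (pure₁ e P) :=
  ⟨card_eq e, span₁, form₁ S₁ S₂ hT, fun _ hg => act₁ hg⟩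

/-- The pairing with the second factor as frame factor. -/
theorem pairing₂ (S₁ : Ses σ f₁) (S₂ : Ses σ f₂)
    (hT : Cfsg.Geo.IsTensorFormStructure (σ : F → F) f f₁ f₂ e P) :
    Pairing f f₂ f₁ (Cfsg.Geo.tensorProductSubgroup n₁ n₂ e P) (pure₁ e P).flip := by
  refine ⟨by rw [mul_comm]; exact card_eq e, fun x => ?_, ?_, fun g hg => ?_⟩
  · obtain ⟨a, rfl⟩ := span₁ (e := e) (P := P) x
    refine ⟨fun j i => a i j, ?_⟩
    simp only [LinearMap.flip_apply]
    conv_lhs =>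
      arg 2; ext i
      rw [Ses.expand (a i), map_sum]
    rw [Finset.sum_comm]
    refine Finset.sum_congr rfl fun j _ => ?_
    rw [Ses.expand (fun i => a i j), map_sum, LinearMap.sum_apply]
    refine Finset.sum_congr rfl fun i _ => ?_
    rw [map_smul, map_smul, LinearMap.smul_apply]
  · obtain ⟨c, hc, h⟩ := form₁ S₁ S₂ hT
    exact ⟨c, hc, fun a b a' b' => by rw [LinearMap.flip_apply, LinearMap.flip_apply, h, mul_comm (f₁ _ _)]⟩
  · obtain ⟨A, B, h⟩ := act₁ hg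
    exact ⟨B, A, fun a b => h b a⟩

end Build

end Cfsg.Lib.Linear.TensorFrame
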