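import Cfsg.Agent.Lib.Linear.Tensor.Cases
import Cfsg.Agent.Lib.Linear.TransvectionGL

/-!
# Symplectic and unitary cases
-/

set_option autoImplicit false

namespace Cfsg.Lib.Linear.TensorFrame

open Module
open scoped Matrix

variable {ι : Type} [Fintype ι] [DecidableEq ι] {F : Type*} [Field F] {r m : ℕ}

theorem not_max_transvection [Finite F] {σ : F →+* F} {f : (ι → F) → (ι → F) → F}
    (Sf : Ses σ f) {h₁ : (Fin r → F) → (Fin r → F) → F} {h₂ : (Fin m → F) → (Fin m → F) → F}
    (S₁ : Ses σ h₁) (S₂ : Ses σ h₂) {G : Subgroup (GL ι F)}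
    {pu : (Fin r → F) →ₗ[F] (Fin m → F) →ₗ[F] (ι → F)} (T : Pairing f h₁ h₂ G pu)
    {v : Fin r → Fin r → F} {κ : F} (hκ : κ ≠ 0)
    (hv : ∀ i j, h₁ (v i) (v j) = if i = j then κ else 0) (hR : FrameRule h₁ v)
    {I : Subgroup (GL ι F)} (hI : ∀ g ∈ I, ∀ x y, f (g.val *ᵥ x) (g.val *ᵥ y) = f x y)
    (htv : ∀ u, f u u = 0 → ∃ g ∈ I, ∀ x, g.val *ᵥ x = x + f x u • u)
    {a a' : Fin m → F} (ha : h₂ a a = 0) (ha' : h₂ a' a ≠ 0) (i₀ i₁ : Fin r) (hne : i₀ ≠ i₁) :
    ∃ K : Subgroup (GL ι F), G ⊓ I < K ∧ K < I := by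
  have hli := li_of_orth S₁ (fun _ => κ) (fun _ => hκ) hv
  obtain ⟨c, hc, hform⟩ := T.form
  have hB : ∀ i j a b, f (pu (v i) a) (pu (v j) b) = if i = j then c * κ * h₂ a b else 0 :=
    fun i j a b => by
      rw [hform, hv]
      split_ifs <;> ring
  have ha0 : a ≠ 0 := fun h => ha' (by rw [h, S₂.zero_right])
  have ht : c * κ * h₂ a' a ≠ 0 := mul_ne_zero (mul_ne_zero hc hκ) ha'
  refine not_max (v := v) T S₂ hR ⟨a', a, ha'⟩ ⟨v i₀, v i₀, by rw [hv, if_pos rfl]; exact hκ⟩ hli hI
    i₀ i₁ hne ?_ ?_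
  · obtain ⟨g, hg, hact⟩ := htv (pu (v i₀) a) (by rw [hB, if_pos rfl, ha, mul_zero])
    refine ⟨g, hg, fun z => z + (c * κ * h₂ z a) • a, fun z => ?_, fun i hi z => ?_, fun μ => ?_⟩
    · rw [hact, hB, if_pos rfl, map_add, map_smul]
    · rw [hact, hB, if_neg hi, zero_smul, add_zero]
    · by_cases hμ : μ = 1
      · refine ⟨a', fun he => ?_⟩
        simp only [hμ, one_smul, add_eq_left, smul_eq_zero] at he
        exact he.elim ht ha0
      · refine ⟨a, fun he => hμ ?_⟩
        simp only [ha, mul_zero, zero_smul, add_zero] at he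
        exact (smul_left_injective F ha0 (show (1 : F) • a = μ • a by rw [one_smul]; exact he)).symm
  · obtain ⟨g, hg, hact⟩ := htv (pu (v i₀) a + pu (v i₁) a) (by
      rw [Sf.add_left, Sf.add_right, Sf.add_right, hB, hB, hB, hB, if_pos rfl, if_pos rfl,
        if_neg hne, if_neg (Ne.symm hne), ha, mul_zero]
      simp)
    let t := c * κ * h₂ a' a
    refine ⟨g, hg, a', Pi.single i₀ (a' + t • a) + Pi.single i₁ (t • a), ?_, ?_, ?_⟩
    · rw [hact, Sf.add_right, hB, hB, if_pos rfl, if_neg hne, add_zero, map_add, phi_single,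
        phi_single]
      simp only [map_add, map_smul, smul_add, t]
      abel
    · simp only [Pi.add_apply, Pi.single_eq_same, Pi.single_eq_of_ne hne, add_zero]
      intro he
      apply ha'
      rw [eq_neg_of_add_eq_zero_left he, ← neg_smul, S₂.smul_left, ha, mul_zero]
    · simp only [Pi.add_apply, Pi.single_eq_same, Pi.single_eq_of_ne (Ne.symm hne), zero_add]
      exact smul_ne_zero ht ha0

section Four

variable [Fintype F] (hF : Fintype.card F = 4)

include hF

theorem two_eq : (2 : F) = 0 := by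
  have := Nat.cast_card_eq_zero F
  rw [hF] at this
  have h22 : (2 : F) ^ 2 = 0 := by rw [sq]; exact_mod_cast this
  exact pow_eq_zero_iff two_ne_zero |>.mp h22

theorem pow_three {x : F} (hx : x ≠ 0) : x ^ 3 = 1 := by
  have := FiniteField.pow_card_sub_one_eq_one x hx
  rwa [hF] at this

/-- The squaring map. -/
def sqHom : F →+* F where
  toFun x := x ^ 2
  map_one' := one_pow 2
  map_mul' x y := mul_pow x y 2
  map_zero' := zero_pow two_ne_zero
  map_add' x y := by linear_combination (x * y) * two_eq hF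

theorem sqHom_apply (x : F) : sqHom hF x = x ^ 2 := rfl

variable {n : ℕ} {h : (Fin n → F) → (Fin n → F) → F} (hu : Cfsg.Geo.IsUnitaryFormPow 2 h)

include hu

theorem ses_unitary : Ses (sqHom hF) h :=
  ⟨hu.add_left, hu.smul_left,
    fun v x y => by
      rw [hu.herm v (x + y), hu.add_left, hu.herm v x, hu.herm v y, ← sqHom_apply hF, map_add]
      rfl,
    fun c v x => by
      rw [hu.herm v (c • x), hu.smul_left, hu.herm v x, mul_pow, ← sqHom_apply hF]⟩

theorem self_zero_or_one (v : Fin n → F) : h v v = 0 ∨ h v v = 1 := by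
  by_cases h0 : h v v = 0
  · exact Or.inl h0
  · refine Or.inr (mul_left_cancel₀ h0 ?_)
    rw [mul_one, ← sq]
    exact (hu.herm v v).symm

theorem exists_aniso (hn : 0 < n) : ∃ p, h p p = 1 := by
  by_contra hne
  push Not at hne
  have hz : ∀ p, h p p = 0 := fun p => (self_zero_or_one hF hu p).resolve_right (hne p)
  have S := ses_unitary hF hu
  let v : Fin n → F := Pi.single ⟨0, hn⟩ 1
  obtain ⟨⟨x, hx⟩, -⟩ := hu.nondegenerate v (Pi.single_ne_zero_iff.mpr one_ne_zero)
  have key : ∀ c : F, c * h x v + (c * h x v) ^ 2 = 0 := fun c => by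
    have h1 := hz (c • x + v)
    rw [S.add_left, S.add_right, S.add_right, hz, hz, zero_add, add_zero, S.smul_left,
      hu.herm v (c • x), S.smul_left] at h1
    exact h1
  obtain ⟨w, hw0, hw1⟩ : ∃ w : F, w ≠ 0 ∧ w ≠ 1 := by
    classical
    by_contra hne'
    push Not at hne'
    have hle : (Finset.univ : Finset F) ⊆ {0, 1} := fun a _ => by
      by_cases ha : a = 0
      · simp [ha]
      · simp [hne' a ha]
    have h5 := (Finset.card_le_card hle).trans Finset.card_le_two
    rw [Finset.card_univ, hF] at h5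
    omega
  have h1 := key (w / h x v)
  rw [div_mul_cancel₀ _ hx] at h1
  have h1' : w * (1 + w) = 0 := by linear_combination h1
  exact hw1 (by linear_combination (mul_eq_zero.mp h1').resolve_left hw0 - two_eq hF)

/-- A second vector perpendicular to an anisotropic one. -/
theorem exists_perp (hn : 2 ≤ n) {p : Fin n → F} (hp : h p p = 1) :
    ∃ w, w ≠ 0 ∧ h w p = 0 ∧ h p w = 0 := by
  have S := ses_unitary hF hu
  let φ : (Fin n → F) →ₗ[F] F :=
    ⟨⟨fun b => h b p, fun x y => S.add_left x y p⟩, fun c b => S.smul_left c b p⟩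
  obtain ⟨w, hw, hw0⟩ := Submodule.exists_mem_ne_zero_of_ne_bot
    (LinearMap.ker_ne_bot_of_finrank_lt (f := φ) (by rw [Module.finrank_self, Module.finrank_fin_fun]; omega))
  refine ⟨w, hw0, hw, ?_⟩
  rw [hu.herm p w, show h w p = 0 from hw, zero_pow two_ne_zero]

theorem exists_iso (hn : 2 ≤ n) : ∃ a, a ≠ 0 ∧ h a a = 0 := by
  have S := ses_unitary hF hu
  obtain ⟨p, hp⟩ := exists_aniso hF hu (by omega)
  obtain ⟨w, hw0, hw, hw'⟩ := exists_perp hF hu hn hp
  rcases self_zero_or_one hF hu w with h0 | h1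
  · exact ⟨w, hw0, h0⟩
  · refine ⟨p + w, fun hz => ?_, ?_⟩
    · have := congrArg (fun z => h z p) hz
      simp [S.add_left, S.zero_left, hp, hw] at this
    · rw [S.add_left, S.add_right, S.add_right, hp, hw, hw', h1]
      linear_combination two_eq hF

omit hu in
theorem exists_frame_two {h : (Fin 2 → F) → (Fin 2 → F) → F} (hu : Cfsg.Geo.IsUnitaryFormPow 2 h) :
    ∃ v : Fin 2 → Fin 2 → F, ∀ i j, h (v i) (v j) = if i = j then 1 else 0 := by
  have S := ses_unitary hF hu
  obtain ⟨p, hp⟩ := exists_aniso hF hu (by omega)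
  obtain ⟨w, hw0, hw, hw'⟩ := exists_perp hF hu le_rfl hp
  have hww : h w w = 1 := (self_zero_or_one hF hu w).resolve_left fun h0 => by
    have hli : LinearIndependent F ![p, w] := LinearIndependent.pair_iff.mpr fun a c hac => by
      have h1 := congrArg (fun z => h z p) hac
      simp only [S.add_left, S.smul_left, S.zero_left, hp, hw, mul_one, mul_zero, add_zero] at h1
      refine ⟨h1, ?_⟩
      rw [h1, zero_smul, zero_add, smul_eq_zero] at hac
      exact hac.resolve_right hw0
    obtain ⟨⟨x, hx⟩, -⟩ := hu.nondegenerate w hw0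
    obtain ⟨a, rfl⟩ := span_of_orth S hli x
    simp [Fin.sum_univ_two, S.add_left, S.smul_left, hw', h0] at hx
  refine ⟨![p, w], fun i j => ?_⟩
  fin_cases i <;> fin_cases j <;> simp [hp, hw, hw', hww]

omit hu in
theorem frameRule_two {h : (Fin 2 → F) → (Fin 2 → F) → F} (hu : Cfsg.Geo.IsUnitaryFormPow 2 h)
    {v : Fin 2 → Fin 2 → F} (hv : ∀ i j, h (v i) (v j) = if i = j then 1 else 0) : FrameRule h v := by
  intro A lam hlam hA i
  have S := ses_unitary hF hu
  have hli := li_of_orth S (fun _ => (1 : F)) (fun _ => one_ne_zero) hv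
  obtain ⟨a, ha⟩ := span_of_orth S hli (A.val *ᵥ v i)
  have hlam1 : lam = 1 := by
    have := self_zero_or_one hF hu (A.val *ᵥ v i)
    rw [hA, hv, if_pos rfl, mul_one] at this
    exact this.resolve_left hlam
  have h1 : a 0 ^ 3 + a 1 ^ 3 = 1 := by
    have := hA (v i) (v i)
    rw [hv i i, if_pos rfl, hlam1, one_mul, ← ha] at this
    simp [Fin.sum_univ_two, S.add_left, S.add_right, S.smul_left, S.smul_right, hv, sqHom_apply] at this
    linear_combination this
  by_cases h0 : a 0 = 0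
  · exact ⟨1, a 1, by rw [← ha, Fin.sum_univ_two, h0, zero_smul, zero_add]⟩
  by_cases h1' : a 1 = 0
  · exact ⟨0, a 0, by rw [← ha, Fin.sum_univ_two, h1', zero_smul, add_zero]⟩
  exact absurd (by linear_combination h1 - pow_three hF h0 - pow_three hF h1') (one_ne_zero (α := F))

end Four

end Cfsg.Lib.Linear.TensorFrame
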